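import Cfsg.Agent.R2.Spec.X6.SixL2

/-!
# The section is not classical of odd characteristic (helper2, S3435, box X6)
-/

set_option autoImplicit false
set_option linter.unusedSectionVars false

namespace Cfsg.Agent.R2.Spec.X6

open Subgroup Cfsg
open Cfsg.Agent.H228.E3 Cfsg.Agent.H200.STwo.E3Glue
open Cfsg.Agent.H420.QR (Red)
open Cfsg.Agent.H426.LieFam (Fam)

universe u v w

variable {F : Type w} [Field F] [Fintype F] {e : Bool} {n k : ℕ} {L : Type v} [Group L] [Finite L]
  {G : Type u} [Group G] [Finite G] {K : Subgroup G} [K.Normal] {S : Subgroup (G ⧸ K)} [S.Normal]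

/-- **The section is not classical of odd characteristic.** -/
theorem no_classical (H : Hyp e n k F L) (hω : H228.E3.SameOrd G L) (R : Red G K S) {p f : ℕ} (hp : p.Prime) (hp2 : p ≠ 2)
    {t : Fam} (ht : Cla t) (hI : Fam.Is p f S t) : False := by
  rcases (Nat.lt_or_ge n 7) with h | h
  · have hn := H.hn
    obtain rfl : n = 6 := by omega
    have := R.simple
    by_cases h2 : t = .psl 2
    · subst h2
      obtain ⟨-, h4, E, _, _, _, hE, ⟨φ⟩⟩ := hI
      have hf : 1 ≤ f := by
        rw [Nat.one_le_iff_ne_zero]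
        rintro rfl
        rw [pow_zero] at hE
        have := Fintype.one_lt_card (α := E)
        omega
      exact six_l2 H hω R hp hp2 hf hE (by rw [hE]; exact h4 rfl) φ
    · rcases sdat_fam hp hp2 R.nonab ht hI with hS | ⟨E, _, _, _, hf, hE, h4, ⟨φ⟩⟩
      · exact six_sdat H hω R hp hp2 ht hI h2 hS
      · exact six_l2 H hω R hp hp2 hf hE h4 φ
  · exact kill_fam (redL_of_red R) hω (H.ldat h) hp hp2 ht hI

end Cfsg.Agent.R2.Spec.X6
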