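import Cfsg.Agent.R2.Spec.X6.Base
import Cfsg.Agent.H200.STwo.Frame
import Cfsg.Agent.S3585
import Cfsg.Agent.S3586
import Cfsg.Agent.S3587

/-!
# `PSL_n(q)`, `PSU_n(q)`, `q = 2 ^ k`, `n ≥ 6`: the frame of the quasirecognition (helper2, S3435, box X6)

* `exists_iso_of` : the simple section is `L`, given the eliminations of the groups of odd characteristic.
-/

set_option autoImplicit false
set_option linter.unusedSectionVars false

namespace Cfsg.Agent.R2.Spec.X6

open Subgroup Cfsg Cfsg.Agent.H403 Cfsg.Agent.H403.NumTop Cfsg.Agent.H321.SpecEven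
open Cfsg.Agent.H228.E3 Cfsg.Agent.H200.STwo.E3Glue
open Cfsg.Agent.H420.QR (Red)
open Cfsg.Agent.H426.LieFam (Fam)
open Cfsg.Agent.H200.STwo (Named.exists_factor Named.named_cases)
open Cfsg.Agent.H200.STwo.Frame (AL card_psl_three)

universe u v w

section

variable {F : Type w} [Field F] [Fintype F] {e : Bool} {n k : ℕ} {L : Type v} [Group L] [Finite L]

/-- the coclique of the classes `n`, `n - 1`, `n - 2` -/
theorem Hyp.coq_top (H : Hyp e n k F L) {a b c : ℕ} (ha : a.Prime) (hb : b.Prime) (hc : c.Prime)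
    (ha1 : od e (2 ^ k) a = n) (hb1 : od e (2 ^ k) b = n - 1) (hc1 : od e (2 ^ k) c = n - 2) :
    Coq5 L {a, b, c} ∧ ({a, b, c} : Finset ℕ).card = 3 := by
  have hn := H.hn
  have hab : a ≠ b := by rintro rfl; omega
  have hac : a ≠ c := by rintro rfl; omega
  have hbc : b ≠ c := by rintro rfl; omega
  constructor
  · refine H.coq ?_ ?_
    · intro r hr
      simp only [Finset.mem_insert, Finset.mem_singleton] at hr
      rcases hr with rfl | rfl | rfl
      · exact ⟨ha, by omega, by omega⟩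
      · exact ⟨hb, by omega, by omega⟩
      · exact ⟨hc, by omega, by omega⟩
    · intro r hr s hs hrs
      simp only [Finset.mem_insert, Finset.mem_singleton] at hr hs
      rcases hr with rfl | rfl | rfl <;> rcases hs with rfl | rfl | rfl <;>
        first | rfl | (exfalso; omega)
  · rw [Finset.card_insert_of_notMem, Finset.card_insert_of_notMem, Finset.card_singleton]
    · simpa using hbc
    · simpa using ⟨hab, hac⟩

theorem Hyp.exists_coq (H : Hyp e n k F L) : ∃ A : Finset ℕ, Coq5 L A ∧ 3 ≤ A.card := by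
  have hn := H.hn
  obtain ⟨a, ha, ha1⟩ := H.exists_od (i := n) (by omega)
  obtain ⟨b, hb, hb1⟩ := H.exists_od (i := n - 1) (by omega)
  obtain ⟨c, hc, hc1⟩ := H.exists_od (i := n - 2) (by omega)
  obtain ⟨h1, h2⟩ := H.coq_top ha hb hc ha1 hb1 hc1
  exact ⟨_, h1, h2.ge⟩

theorem Hyp.two_ge (H : Hyp e n k F L) : e = true → Fintype.card F = 2 ^ k := by
  rintro rfl
  simpa using H.hF

variable {G : Type u} [Group G] [Finite G]

theorem Hyp.same (hω : Set.range (orderOf : G → ℕ) = Set.range (orderOf : L → ℕ)) : SameOrd G L := fun m => by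
  have h1 : m ∈ Set.range (orderOf : G → ℕ) ↔ m ∈ Set.range (orderOf : L → ℕ) := by rw [hω]
  exact h1

theorem Hyp.alt (H : Hyp e n k F L) (hω : Set.range (orderOf : G → ℕ) = Set.range (orderOf : L → ℕ)) :
    ∀ (X : Subgroup G), X.IsSubnormal → ∀ (N : Subgroup ↥X) [N.Normal],
      IsSimpleGroup (↥X ⧸ N) → ¬ IsMulCommutative (↥X ⧸ N) → ∀ k : ℕ, ¬ Nonempty ((↥X ⧸ N) ≃* alternatingGroup (Fin k)) := by
  have hn := H.hn
  have hF := H.hF
  have hL := H.hL
  cases e with
  | true => exact S3585.result (F := F) (n := n) (by omega) (Or.inl ⟨by omega, hL⟩) hω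
  | false => exact S3585.result (F := F) (n := n) (by omega) (Or.inr ⟨2 ^ k, by omega, by simpa using hF, hL⟩) hω

theorem Hyp.spor (H : Hyp e n k F L) (hω : Set.range (orderOf : G → ℕ) = Set.range (orderOf : L → ℕ)) :
    ∀ (X : Subgroup G), X.IsSubnormal → ∀ (N : Subgroup ↥X) [N.Normal],
      IsSimpleGroup (↥X ⧸ N) → ¬ IsMulCommutative (↥X ⧸ N) → ¬ Cfsg.IsSporadic (↥X ⧸ N) ∧ ¬ Cfsg.Lie.IsoTits (↥X ⧸ N) := by
  have hn := H.hn
  have hF := H.hF
  have hL := H.hL
  cases e with
  | true => exact S3586.result (F := F) (n := n) (by omega) (Or.inl hL) hω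
  | false => exact S3586.result (F := F) (n := n) (by omega) (Or.inr ⟨2 ^ k, by omega, by simpa using hF, hL⟩) hω

theorem Hyp.char_two (H : Hyp e n k F L) (hω : Set.range (orderOf : G → ℕ) = Set.range (orderOf : L → ℕ)) :
    ∀ (X : Subgroup G), X.IsSubnormal → ∀ (N : Subgroup ↥X) [N.Normal],
      IsSimpleGroup (↥X ⧸ N) → ¬ IsMulCommutative (↥X ⧸ N) → Cfsg.IsLieTypeChar 2 (↥X ⧸ N) →
      Nonempty ((↥X ⧸ N) ≃* L) := by
  have hn := H.hn
  have hF := H.hF
  have hL := H.hL
  have hch : CharP F 2 := charP_two_of_card hF H.qe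
  have : Fact (Nat.Prime 2) := ⟨Nat.prime_two⟩
  cases e with
  | true => exact S3587.result (F := F) 2 (n := n) (by omega) (Or.inl hL) hω
  | false => exact S3587.result (F := F) 2 (n := n) (by omega) (Or.inr ⟨2 ^ k, by omega, by simpa using hF, hL⟩) hω

/-- **The frame** -/
theorem exists_iso_of (H : Hyp e n k F L) (hω : Set.range (orderOf : G → ℕ) = Set.range (orderOf : L → ℕ))
    (hcl : ∀ (K : Subgroup G) [K.Normal] (S : Subgroup (G ⧸ K)) [S.Normal], Red G K S → ∀ (p f : ℕ) (t : Fam), p.Prime →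
      p ≠ 2 → Cla t → Fam.Is p f S t → False)
    (hex : ∀ (K : Subgroup G) [K.Normal] (S : Subgroup (G ⧸ K)) [S.Normal], Red G K S → ¬ AL ↥S →
      ∀ (p f : ℕ) (t : Fam), p.Prime → p ≠ 2 → 1 ≤ f → H77.E4Final.Exc t → Fam.Is p f S t → False) :
    ∃ (K : Subgroup G) (_ : K.Normal) (S : Subgroup (G ⧸ K)) (_ : S.Normal), Red G K S ∧ Nonempty (↥S ≃* L) := by
  obtain ⟨A, hA, hA3⟩ := H.exists_coq
  have hsp := Hyp.same hω
  have hn := H.hn
  have hAG : Coq5 G A := hA.of_same hsp
  have hfar : ∃ p : ℕ, p.Prime ∧ p ≠ 2 ∧ p ∣ Nat.card G ∧ ¬ ∃ x : G, orderOf x = 2 * p := by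
    obtain ⟨a, ha, ha1⟩ := H.exists_od (i := n) (by omega)
    have h1 : Coq5 L {a} := H.coq (fun r hr => by
      rw [Finset.mem_singleton] at hr
      subst hr
      exact ⟨ha, by omega, by omega⟩) (fun r hr s hs _ => by
      rw [Finset.mem_singleton] at hr hs
      rw [hr, hs])
    refine ⟨a, ha, H.ne_two (by omega), (h1.of_same hsp).1.dvd a (by simp), fun h => ?_⟩
    exact H.far ha (Or.inl ha1) ((hsp _).1 h)
  obtain ⟨K, hK, S, hS, R⟩ := H420.QR.exists_red (G := G) (ρ := A) ⟨hAG.1.prime, hAG.1.dvd, hAG.1.nadj⟩ hA3 hfar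
  refine ⟨K, hK, S, hS, R, ?_⟩
  have hsimp := R.simple
  obtain ⟨X, hX, N, hN, ⟨φ⟩⟩ := Named.exists_factor R
  have hs : IsSimpleGroup (↥X ⧸ N) := MulEquiv.isSimpleGroup φ
  have hna : ¬ IsMulCommutative (↥X ⧸ N) := by
    rintro ⟨⟨hc⟩⟩
    apply R.nonab
    refine ⟨⟨fun a b => φ.symm.injective ?_⟩⟩
    rw [map_mul, map_mul, hc]
  have halt : ∀ m, ¬ Nonempty (↥S ≃* alternatingGroup (Fin m)) := by
    rintro m ⟨e⟩
    exact H.alt hω X (Subgroup.Normal.isSubnormal hX) N hs hna m ⟨φ.trans e⟩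
  -- `S` is not `L₂(odd)`
  have hAL : ¬ AL ↥S := by
    rintro (h | ⟨E, i1, i2, ho, ⟨e⟩⟩)
    · exact halt 7 h
    · obtain ⟨p, hp⟩ := CharP.exists E
      have hpp : p.Prime := CharP.char_is_prime E p
      obtain ⟨f, -, hE⟩ := FiniteField.card E p
      have hp2 : p ≠ 2 := by
        rintro rfl
        rw [hE] at ho
        exact Nat.not_odd_iff_even.2 (Nat.even_pow.2 ⟨even_two, f.ne_zero⟩) ho
      by_cases h3 : Fintype.card E = 3
      · obtain ⟨h4, h5⟩ := (redL_of_red R).filter hAG hA3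
        have h6 : (A.filter fun r => r ∣ Nat.card S).Nonempty := by
          rw [← Finset.card_pos]
          omega
        obtain ⟨a, ha⟩ := h6
        obtain ⟨ha1, ha2⟩ := Finset.mem_filter.1 ha
        rw [Nat.card_congr e.toEquiv, card_psl_three h3] at ha2
        have h7 := hAG.2 a ha1
        have h8 := hAG.1.prime a ha1
        have h9 : a ∣ 2 ^ 2 * 3 := ha2
        rcases h8.dvd_mul.1 h9 with h | h
        · have := Nat.le_of_dvd (by norm_num) (h8.dvd_of_dvd_pow h)
          omega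
        · have := Nat.le_of_dvd (by norm_num) h
          omega
      · refine hcl K S R p f (.psl 2) hpp hp2 trivial ⟨le_rfl, fun _ => ?_, E, i1, i2, hp, hE, ⟨e⟩⟩
        rw [← hE]
        have h1 : 1 < Fintype.card E := Fintype.one_lt_card
        have h2 : Fintype.card E % 2 = 1 := Nat.odd_iff.1 ho
        omega
  obtain ⟨g, hg⟩ := H436.name hna
  rcases Named.named_cases hs hg with ⟨m, h⟩ | h | ⟨⟨e⟩⟩ | ⟨p, hp, hl'⟩
  · exact absurd h (H.alt hω X (Subgroup.Normal.isSubnormal hX) N hs hna m)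
  · exact absurd h (H.spor hω X (Subgroup.Normal.isSubnormal hX) N hs hna).1
  · exact absurd ⟨e⟩ (H.spor hω X (Subgroup.Normal.isSubnormal hX) N hs hna).2
  · have hl : IsLieTypeChar p ↥S := H340.isLieTypeChar_congr φ.symm hl'
    by_cases hp2 : p = 2
    · subst hp2
      obtain ⟨ψ⟩ := H.char_two hω X (Subgroup.Normal.isSubnormal hX) N hs hna hl'
      exact ⟨φ.symm.trans ψ⟩
    · exfalso
      obtain ⟨fam, f, d, M, hIs, hSh⟩ := H426.LieFam.exists_fam hp hl
      have hf := hSh.f_pos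
      cases fam with
      | psl m => exact hcl K S R p f (.psl m) hp hp2 trivial hIs
      | psp m => exact hcl K S R p f (.psp m) hp hp2 trivial hIs
      | psu m => exact hcl K S R p f (.psu m) hp hp2 trivial hIs
      | oodd m => exact hcl K S R p f (.oodd m) hp hp2 trivial hIs
      | oplus m => exact hcl K S R p f (.oplus m) hp hp2 trivial hIs
      | ominus m => exact hcl K S R p f (.ominus m) hp hp2 trivial hIs
      | g2 => exact hex K S R hAL p f .g2 hp hp2 hf trivial hIs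
      | f4 => exact hex K S R hAL p f .f4 hp hp2 hf trivial hIs
      | e6 => exact hex K S R hAL p f .e6 hp hp2 hf trivial hIs
      | e7 => exact hex K S R hAL p f .e7 hp hp2 hf trivial hIs
      | e8 => exact hex K S R hAL p f .e8 hp hp2 hf trivial hIs
      | te6 => exact hex K S R hAL p f .te6 hp hp2 hf trivial hIs
      | td4 => exact hex K S R hAL p f .td4 hp hp2 hf trivial hIs
      | ree => exact hex K S R hAL p f .ree hp hp2 hf trivial hIs
      | sz => exact hp2 hIs.1
      | tf4 => exact hp2 hIs.1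

end

end Cfsg.Agent.R2.Spec.X6
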