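import Cfsg.Agent.R2.Spec.X6.ExcDisp

/-!
# `PSL_n(q)`, `PSU_n(q)`, `q = 2 ^ k`, `n ≥ 6`: the section is not exceptional of odd characteristic, `²G₂` excluded
(helper2, S3435, box X6)
-/

set_option autoImplicit false
set_option linter.unusedSectionVars false

namespace Cfsg.Agent.R2.Spec.X6

open Subgroup Cfsg Cfsg.Agent.H403 Cfsg.Agent.H403.NumTop Cfsg.Agent.H321.SpecEven
open Cfsg.Agent.H420.QR (Red)
open Cfsg.Agent.H426.LieFam (Fam)
open Cfsg.Agent.H77.E4Num Cfsg.Agent.H77.E4Poly Cfsg.Agent.H77.E4Fin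
open Cfsg.Agent.H77.E4Cls Cfsg.Agent.H77.E4XD

universe u v w

variable {F : Type w} [Field F] [Fintype F] {e : Bool} {n k : ℕ} {L : Type v} [Group L] [Finite L]
  {G : Type u} [Group G] [Finite G] {K : Subgroup G} [K.Normal] {S : Subgroup (G ⧸ K)} [S.Normal]

/-- the exceptional families, without `²G₂` -/
def ExU : Fam → Prop
  | .g2 | .f4 | .e6 | .e7 | .e8 | .te6 | .td4 => True
  | _ => False

theorem no_exu (H : Hyp e n k F L) (hω : H228.E3.SameOrd G L) (R : Red G K S) {p f : ℕ} {t : Fam} (hp : p.Prime)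
    (hp2 : p ≠ 2) (hf : 1 ≤ f) (ht : ExU t) (hI : Fam.Is p f S t) : False := by
  have ho : Odd (p ^ f) := (hp.odd_of_ne_two hp2).pow
  have hn := H.hn
  cases t with
  | g2 =>
    obtain ⟨-, E, _, _, _, hE, ⟨φ⟩⟩ := hI
    have hq : Nat.card E = p ^ f := by rw [Nat.card_eq_fintype_card, hE]
    have hX : ExS ↥S (nG2 (p ^ f)) 1 (p ^ f) [3, 6] := by
      have := (exs_G2 E (by rwa [hq])).congr φ
      rwa [hq] at this
    have hc : ∃ q, H168.ExcCoc.ExcCov ↥S q 3 := H168.ExcCoc.g2 ⟨E, inferInstance, inferInstance, hE ▸ hX.three, ⟨φ⟩⟩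
    exact num_G2 hn (rank_le H hω R hc) H.hk H.he hX.three ho (numL_of H hω R hX odd_one)
  | f4 =>
    obtain ⟨E, _, _, _, hE, ⟨φ⟩⟩ := hI
    have hq : Nat.card E = p ^ f := by rw [Nat.card_eq_fintype_card, hE]
    have hX : ExS ↥S (nF4 (p ^ f)) 1 (p ^ f) [12] := by
      have := (H77.E4ClsB.exs_F4 E (by rwa [hq])).congr φ
      rwa [hq] at this
    have hc : ∃ q, H168.ExcCoc.ExcCov ↥S q 5 := H168.ExcCoc.f4 ⟨E, inferInstance, inferInstance, ⟨φ⟩⟩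
    exact num_F4 hn (rank_le H hω R hc) H.hk H.he hX.three ho (numL_of H hω R hX odd_one)
  | e6 =>
    obtain ⟨E, _, _, _, hE, ⟨φ⟩⟩ := hI
    have hq : Nat.card E = p ^ f := by rw [Nat.card_eq_fintype_card, hE]
    have hX : ExS ↥S (nE6 (p ^ f)) 3 (p ^ f) [8, 9, 12] := by
      have := (exs_E6 E (by rwa [hq])).congr φ
      rwa [hq] at this
    have hc : ∃ q, H168.ExcCoc.ExcCov ↥S q 5 := H168.ExcCoc.e6 ⟨E, inferInstance, inferInstance, ⟨φ⟩⟩
    exact num_E6 hn (rank_le H hω R hc) H.hk H.he hX.three ho (numL_of H hω R hX (by decide))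
  | e7 =>
    obtain ⟨E, _, _, _, hE, ⟨φ⟩⟩ := hI
    have hq : Nat.card E = p ^ f := by rw [Nat.card_eq_fintype_card, hE]
    have hX : ExS ↥S (nE6 (p ^ f)) 3 (p ^ f) [7, 9, 12, 14, 18] := by
      have := (H77.E4Seven.exs_E7 E (by rwa [hq])).congr φ
      rwa [hq] at this
    have hc : ∃ q, H168.ExcCoc.ExcCov ↥S q 8 := H168.ExcCoc.e7 ⟨E, inferInstance, inferInstance, ⟨φ⟩⟩
    exact num_E7 hn (rank_le H hω R hc) H.hk H.he hX.three ho (numL_of H hω R hX (by decide))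
  | e8 =>
    obtain ⟨E, _, _, _, hE, ⟨φ⟩⟩ := hI
    have hq : Nat.card E = p ^ f := by rw [Nat.card_eq_fintype_card, hE]
    have hX : ExS ↥S (nE8 (p ^ f)) 1 (p ^ f) [15, 20, 24, 30] := by
      have := (exs_E8 E (by rwa [hq])).congr φ
      rwa [hq] at this
    have hc : ∃ q, H168.ExcCoc.ExcCov ↥S q 12 := H168.ExcCoc.e8 ⟨E, inferInstance, inferInstance, ⟨φ⟩⟩
    exact num_E8 hn (rank_le H hω R hc) H.hk H.he hX.three ho (numL_of H hω R hX odd_one)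
  | te6 =>
    obtain ⟨E, _, _, _, hE, ⟨φ⟩⟩ := hI
    have hpp : IsPrimePow (p ^ f) := hp.isPrimePow.pow (by omega)
    have hX : ExS ↥S (nT6 (p ^ f)) 3 (p ^ f) [12, 18] := (H77.E4ClsT.exs_2E6 hpp hE ho).congr φ
    have hc : ∃ q, H168.ExcCoc.ExcCov ↥S q 5 :=
      H168.ExcCoc.te6 ⟨E, inferInstance, inferInstance, p ^ f, hpp, hE, ⟨φ⟩⟩
    exact num_T6 hn (rank_le H hω R hc) H.hk H.he hX.three ho (numL_of H hω R hX (by decide))
  | td4 =>
    obtain ⟨E, _, _, _, hE, ⟨φ⟩⟩ := hI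
    have hpp : IsPrimePow (p ^ f) := hp.isPrimePow.pow (by omega)
    have hX : ExS ↥S (nD4 (p ^ f)) 1 (p ^ f) [12] := (H77.E4ClsT.exs_3D4 hpp hE ho).congr φ
    have hc : ∃ q, H168.ExcCoc.ExcCov ↥S q 3 :=
      H168.ExcCoc.td4 ⟨E, inferInstance, inferInstance, p ^ f, hpp, hE, ⟨φ⟩⟩
    exact num_D4 hn (rank_le H hω R hc) H.hk H.he hX.three ho (numL_of H hω R hX odd_one)
  | _ => exact ht

end Cfsg.Agent.R2.Spec.X6
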