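import Cfsg.Agent.R2.Spec.X6.ReeA
import Cfsg.Agent.H228.E3L2a
import Cfsg.Agent.H934.OutB
import Cfsg.Agent.S1152
import Cfsg.Agent.S1157
import Cfsg.Agent.S2127

/-!
# `PSL_n(q)`, `PSU_n(q)`, `q = 2 ^ k`: the section is not `²G₂(u)` (helper2, S3435, box X6)

* `mov_ree` : the primes of `u - 1` act on 3-subgroups;
* `ree_ten` : rank 10;
* `no_ree` : all ranks.
-/

set_option autoImplicit false
set_option linter.unusedSectionVars false

namespace Cfsg.Agent.R2.Spec.X6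

open Subgroup Cfsg Cfsg.Agent.H403 Cfsg.Agent.H403.NumTop Cfsg.Agent.H321.SpecEven
open Cfsg.Agent.H228.E3 Cfsg.Agent.H200.STwo.E3Glue
open Cfsg.Agent.H425.KStep Cfsg.Agent.H425
open Cfsg.Agent.H420.QR (Red)
open Cfsg.Agent.H426.LieFam (Fam)
open Cfsg.Agent.H77.E4ReeA Cfsg.Agent.H77.E4ReeB Cfsg.Agent.H77.E4ReeC Cfsg.Agent.H77.E4ReeE

universe u v w

/-- `PSL₂(u)` in the Ree group -/
theorem exists_l2 {E : Type*} [Field E] [Fintype E] {m : ℕ} (hE : Fintype.card E = 3 ^ (2 * m + 1)) :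
    ∃ f : Matrix.ProjectiveSpecialLinearGroup (Fin 2) E →* ↥(Lie.twistedG2 E (3 ^ m)), Function.Injective f := by
  obtain ⟨a, haH, ha1, ha2⟩ := S1157.exists_involution hE
  obtain ⟨⟨φ⟩, -⟩ := S1152.result hE a haH ha1 ha2
  refine ⟨(Subgroup.subtype _).comp (φ.symm.toMonoidHom.comp (MonoidHom.inr _ _)), fun x y hxy => ?_⟩
  have h1 := φ.symm.injective (Subgroup.subtype_injective _ hxy)
  exact (Prod.mk.inj h1).2

/-- the primes of `u - 1` act on 3-subgroups -/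
theorem mov_ree {E : Type*} [Field E] [Fintype E] {m : ℕ} (hE : Fintype.card E = 3 ^ (2 * m + 1)) {X : Type*} [Group X]
    (φ : X ≃* ↥(Lie.twistedG2 E (3 ^ m))) {w : ℕ} (hw : w.Prime) (hw2 : w ≠ 2) (h : w ∣ uu m - 1) : Mov X 3 w := by
  have : Fact (Nat.Prime 3) := ⟨Nat.prime_three⟩
  have : CharP E 3 := charP_of_card_eq_prime_pow hE
  obtain ⟨f, hf⟩ := exists_l2 hE
  have h1 : Mov (Matrix.ProjectiveSpecialLinearGroup (Fin 2) E) 3 w :=
    mov_l2 Nat.prime_three (by norm_num) hw hw2 (by rw [hE]; exact h)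
  exact (h1.map f hf).map φ.symm.toMonoidHom φ.symm.injective

variable {F : Type w} [Field F] [Fintype F] {e : Bool} {n k : ℕ} {L : Type v} [Group L] [Finite L]
  {G : Type u} [Group G] [Finite G] {K : Subgroup G} [K.Normal] {S : Subgroup (G ⧸ K)} [S.Normal] {m : ℕ}

theorem fin_four_aux : ∀ a b c d x : Fin 4, (a ≠ b ∧ a ≠ c ∧ a ≠ d ∧ b ≠ c ∧ b ≠ d ∧ (c = 2 ∨ c = 3) ∧ (d = 2 ∨ d = 3) ∧
    c ≠ d) → (a = 0 ∨ b = 0) ∧ (x = a ∨ x = b ∨ x = c ∨ x = d) := by decide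

theorem fin_four (a b c d : Fin 4) (h1 : a ≠ b) (h2 : a ≠ c) (h3 : a ≠ d) (h4 : b ≠ c) (h5 : b ≠ d)
    (h6 : c = 2 ∨ c = 3) (h7 : d = 2 ∨ d = 3) (h8 : c ≠ d) :
    (a = 0 ∨ b = 0) ∧ ∀ x : Fin 4, x = a ∨ x = b ∨ x = c ∨ x = d :=
  ⟨(fin_four_aux a b c d 0 ⟨h1, h2, h3, h4, h5, h6, h7, h8⟩).1,
    fun x => (fin_four_aux a b c d x ⟨h1, h2, h3, h4, h5, h6, h7, h8⟩).2⟩

/-- the coclique of rank 10 -/
theorem Hyp.coq_ten (H : Hyp e 10 k F L) {a b c d f : ℕ} (ha : a.Prime) (hb : b.Prime) (hc : c.Prime) (hd : d.Prime)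
    (hf : f.Prime) (ha1 : od e (2 ^ k) a = 10) (hb1 : od e (2 ^ k) b = 9) (hc1 : od e (2 ^ k) c = 8)
    (hd1 : od e (2 ^ k) d = 7) (hf1 : od e (2 ^ k) f = 6) : Coq5 L {a, b, c, d, f} ∧ 3 ≤ ({a, b, c, d, f} : Finset ℕ).card := by
  have hab : a ≠ b := by rintro rfl; omega
  have hac : a ≠ c := by rintro rfl; omega
  have hbc : b ≠ c := by rintro rfl; omega
  constructor
  · refine H.coq ?_ ?_
    · intro r hr
      simp only [Finset.mem_insert, Finset.mem_singleton] at hr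
      rcases hr with rfl | rfl | rfl | rfl | rfl
      · exact ⟨ha, by omega, by omega⟩
      · exact ⟨hb, by omega, by omega⟩
      · exact ⟨hc, by omega, by omega⟩
      · exact ⟨hd, by omega, by omega⟩
      · exact ⟨hf, by omega, by omega⟩
    · intro r hr s hs hrs
      simp only [Finset.mem_insert, Finset.mem_singleton] at hr hs
      rcases hr with rfl | rfl | rfl | rfl | rfl <;> rcases hs with rfl | rfl | rfl | rfl | rfl <;>
        first | rfl | (exfalso; omega)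
  · have h1 : ({a, b, c} : Finset ℕ) ⊆ {a, b, c, d, f} := by
      intro x hx
      simp only [Finset.mem_insert, Finset.mem_singleton] at hx ⊢
      tauto
    have h2 : ({a, b, c} : Finset ℕ).card = 3 := by
      rw [Finset.card_insert_of_notMem, Finset.card_insert_of_notMem, Finset.card_singleton]
      · simpa using hbc
      · simpa using ⟨hab, hac⟩
    have := Finset.card_le_card h1
    omega

/-- **Rank 10.** -/
theorem ree_ten (H : Hyp e 10 k F L) (hω : H228.E3.SameOrd G L) (R : Red G K S) (hm : 1 ≤ m) {E : Type} [Field E]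
    [Fintype E] (hE : Fintype.card E = 3 ^ (2 * m + 1)) (φ : ↥S ≃* ↥(Lie.twistedG2 E (3 ^ m))) : False := by
  classical
  have T : ReeS m ↥S := H77.E4Final.ree_of hm hE φ
  have hk := H.hk
  have hq2 := q_mod hk
  have hq1 : 1 ≤ 2 ^ k := Nat.one_le_pow _ _ (by norm_num)
  have h2q := H.q2
  have hres := q_res k
  have hRL := redL_of_red R
  obtain ⟨a, ha, ha1⟩ := H.exists_od (i := 10) (by norm_num)
  obtain ⟨b, hb, hb1⟩ := H.exists_od (i := 9) (by norm_num)
  obtain ⟨d, hd, hd1⟩ := H.exists_od (i := 7) (by norm_num)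
  obtain ⟨f, hf, hf1⟩ := H.exists_od (i := 6) (by norm_num)
  -- a bad prime of class 8
  obtain ⟨c, hc, hcd, hc3⟩ := H77.E4ReeA.exists_prime_two (M := (2 ^ k) ^ 4 + 1) (by
    have := four_mod (q := 2 ^ k) (by omega)
    omega)
  have hc1 : od e (2 ^ k) c = 8 := oc_eight hk hc hcd
  have hc8 : c % 8 = 1 := by
    have h1 := order_dvd_pred hc (z := ((xv e (2 ^ k) : ℤ) : ZMod c)) (i := 8) (by norm_num) hc1
    have := hc.two_le
    omega
  have hcS : ¬ c ∣ Nat.card ↥S := by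
    intro hS
    exact jacNN (k := m) (B := c) (by omega) hc3 (T.dv hc.one_lt (cop_six (by omega) (by omega)) (prime_mem hc hS))
  -- the other classes
  obtain ⟨hC, hC3⟩ := H.coq_ten ha hb hc hd hf ha1 hb1 hc1 hd1 hf1
  have hCG := hC.of_same hω
  obtain ⟨-, hgood, -⟩ := hRL.miss hCG hC3 (r := c) (by simp) hcS
  have hne : ∀ {r : ℕ}, od e (2 ^ k) r ≠ 8 → r ≠ c := fun h h2 => h (by rw [h2, hc1])
  have good : ∀ r ∈ ({a, b, c, d, f} : Finset ℕ), r ≠ c → ¬ r ∣ Nat.card ↥K * S.index ∧ r ∣ Nat.card ↥S := by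
    intro r hr hrc
    have h1 := hgood r (Finset.mem_erase.2 ⟨hrc, hr⟩)
    refine ⟨h1, ?_⟩
    by_contra h2
    exact h1 (H228.E3.dvd_rest (hCG.1.prime r hr) (hCG.1.dvd r hr) h2)
  obtain ⟨-, haS⟩ := good a (by simp) (hne (by omega))
  obtain ⟨-, hbS⟩ := good b (by simp) (hne (by omega))
  obtain ⟨hdK, hdS⟩ := good d (by simp) (hne (by omega))
  obtain ⟨hfK, hfS⟩ := good f (by simp) (hne (by omega))
  have hone : ∀ {s i : ℕ}, s.Prime → od e (2 ^ k) s = i → ∀ r : ℕ, r.Prime → r ∣ s → od e (2 ^ k) r = i :=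
    fun hs h1 r hr hd => by rw [(Nat.prime_dvd_prime_iff_eq hr hs).1 hd, h1]
  have idx : ∀ {r i : ℕ}, r.Prime → 5 ≤ i → od e (2 ^ k) r = i → r ∣ Nat.card ↥S → ∃ j, r ∣ NN m j := fun hr hi h1 hS =>
    T.dv hr.one_lt (H.cop_six hi (hone hr h1)) (prime_mem hr hS)
  obtain ⟨ja, hja, hja2⟩ := in_four H hω R T (Or.inl rfl) (c := a) (hone ha ha1)
    (by have := dvd_AA_od (e := e) (k := k) (r := a); rwa [ha1] at this) ha.one_lt
  obtain ⟨jb, hjb, hjb2⟩ := in_four H hω R T (Or.inr rfl) (c := b) (hone hb hb1)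
    (by have := dvd_AA_od (e := e) (k := k) (r := b); rwa [hb1] at this) hb.one_lt
  obtain ⟨jd, hjd⟩ := idx hd (by norm_num) hd1 hdS
  obtain ⟨jf, hjf⟩ := idx hf (by norm_num) hf1 hfS
  -- different classes, different cliques
  have key : ∀ {x y : ℕ} {l : Fin 4}, x.Prime → y.Prime → 6 ≤ od e (2 ^ k) x → od e (2 ^ k) x ≤ 10 →
      6 ≤ od e (2 ^ k) y → od e (2 ^ k) y ≤ 10 → od e (2 ^ k) x ≠ od e (2 ^ k) y → x ∣ NN m l → y ∣ NN m l → False := by
    intro x y l hx hy hx1 hx2 hy1 hy2 hne hxl hyl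
    have hxy : x ≠ y := fun h => hne (by rw [h])
    have hdv : ∀ {i j : ℕ}, i ≠ j → 6 ≤ i → 6 ≤ j → i ≤ 10 → j ≤ 10 → ¬ i ∣ j := by
      rintro i j hij c1 c2 c3 c4 ⟨t, ht⟩
      rcases (by omega : t = 0 ∨ t = 1 ∨ 2 ≤ t) with rfl | rfl | hm2
      · omega
      · omega
      · have : i * 2 ≤ i * t := Nat.mul_le_mul_left i hm2
        omega
    exact H.nadj hx hy (by omega) (by omega) (by omega) (hdv hne hx1 hy1 hx2 hy2) (hdv hne.symm hy1 hx1 hy2 hx2)
      (mem_L hω (T.adj hx hy hxy hxl hyl))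
  have keyn : ∀ {x y : ℕ} {l l' : Fin 4}, x.Prime → y.Prime → 6 ≤ od e (2 ^ k) x → od e (2 ^ k) x ≤ 10 →
      6 ≤ od e (2 ^ k) y → od e (2 ^ k) y ≤ 10 → od e (2 ^ k) x ≠ od e (2 ^ k) y → x ∣ NN m l → y ∣ NN m l' →
      l ≠ l' := fun hx hy h1 h2 h3 h4 h5 h6 h7 h => key hx hy h1 h2 h3 h4 h5 h6 (h ▸ h7)
  obtain ⟨h0, hall⟩ := fin_four jd jf ja jb
    (keyn hd hf (by omega) (by omega) (by omega) (by omega) (by omega) hjd hjf)
    (keyn hd ha (by omega) (by omega) (by omega) (by omega) (by omega) hjd hja)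
    (keyn hd hb (by omega) (by omega) (by omega) (by omega) (by omega) hjd hjb)
    (keyn hf ha (by omega) (by omega) (by omega) (by omega) (by omega) hjf hja)
    (keyn hf hb (by omega) (by omega) (by omega) (by omega) (by omega) hjf hjb) hja2 hjb2
    (keyn ha hb (by omega) (by omega) (by omega) (by omega) (by omega) hja hjb)
  -- a large prime of class 8
  obtain ⟨c', hc', -, hc'1, hc'2⟩ := X6.exists_prime_two (e := e) (i := 8) (k := k) (by norm_num) hk (by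
    have : nu e 8 = 8 := by cases e <;> rfl
    rw [this]
    omega)
  have hc'S : ¬ c' ∣ Nat.card ↥S := by
    intro hS
    obtain ⟨j, hj⟩ := idx hc' (by norm_num) hc'1 hS
    rcases hall j with rfl | rfl | rfl | rfl
    · exact key hc' hd (by omega) (by omega) (by omega) (by omega) (by omega) hj hjd
    · exact key hc' hf (by omega) (by omega) (by omega) (by omega) (by omega) hj hjf
    · exact key hc' ha (by omega) (by omega) (by omega) (by omega) (by omega) hj hja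
    · exact key hc' hb (by omega) (by omega) (by omega) (by omega) (by omega) hj hjb
  have hc'8 : 8 * k + 1 ≤ c' := by
    have : nu e 8 = 8 := by cases e <;> rfl
    rw [this] at hc'2
    omega
  obtain ⟨hC', hC'3⟩ := H.coq_ten ha hb hc' hd hf ha1 hb1 hc'1 hd1 hf1
  obtain ⟨-, -, hfin⟩ := hRL.miss (hC'.of_same hω) hC'3 (r := c') (by simp) hc'S
  rcases hfin with hK | hO
  · -- `c' ∣ |K|`
    obtain ⟨w, hw, hw6, hw7, hwK, hwu⟩ : ∃ w : ℕ, w.Prime ∧ 6 ≤ od e (2 ^ k) w ∧ od e (2 ^ k) w ≤ 7 ∧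
        ¬ w ∣ Nat.card ↥K ∧ w ∣ uu m - 1 := by
      rcases h0 with rfl | rfl
      · exact ⟨d, hd, by omega, by omega, fun h => hdK (h.mul_right _), hjd⟩
      · exact ⟨f, hf, by omega, by omega, fun h => hfK (h.mul_right _), hjf⟩
    have hw2 : w ≠ 2 := H.ne_two (by omega)
    have hMw := mov_ree hE φ hw hw2 hwu
    have hwlt := od_lt (e := e) (q := 2 ^ k) hw (by omega)
    have hclt := od_lt (e := e) (q := 2 ^ k) hc' (by omega)
    have := R.simple
    have hwc : w ≠ c' := by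
      rintro rfl
      omega
    refine mov_false K Nat.prime_three hw hc' (by norm_num) hw2 (by omega) (by omega) hwc hK hwK S hMw ?_
    intro hx
    refine H.nadj hw hc' (by omega) (by omega) (by omega) ?_ ?_ ((hω _).1 hx)
    · rw [hc'1]
      intro h
      rcases (by omega : od e (2 ^ k) w = 6 ∨ od e (2 ^ k) w = 7) with h2 | h2 <;> rw [h2] at h <;> revert h <;> decide
    · rw [hc'1]
      intro h
      rcases (by omega : od e (2 ^ k) w = 6 ∨ od e (2 ^ k) w = 7) with h2 | h2 <;> rw [h2] at h <;> revert h <;> decide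
  · -- `c' ∣ |Out S|`
    rw [H934.OutB.card_out_congr φ, S2127.result hm hE] at hO
    have h1 := Nat.le_of_dvd (by omega) hO
    obtain ⟨y, hy⟩ := NN_mem hω T 0
    have h2 := H.ord_le y
    rw [hy] at h2
    change uu m - 1 ≤ 3 * (2 ^ k) ^ 10 at h2
    have h3 : 3 * 6561 ^ k ≤ uu m := by
      calc 3 * 6561 ^ k = 3 ^ (8 * k + 1) := by rw [pow_succ, pow_mul]; norm_num; ring
        _ ≤ uu m := Nat.pow_le_pow_right (by norm_num) (by omega)
    have h4 : (2 ^ k) ^ 10 = 1024 ^ k := by rw [← pow_mul, mul_comm, pow_mul]; norm_num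
    rw [h4] at h2
    have h5 : 1024 ^ k + 1 ≤ 6561 ^ k := Nat.pow_lt_pow_left (by norm_num) (by omega)
    omega

/-- **The section is not `²G₂(u)`.** -/
theorem no_ree (H : Hyp e n k F L) (hω : H228.E3.SameOrd G L) (R : Red G K S) {p f : ℕ} (hI : Fam.Is p f S .ree) :
    False := by
  obtain ⟨-, m, hm, -, E, _, _, hE, ⟨φ⟩⟩ := hI
  have T : ReeS m ↥S := H77.E4Final.ree_of hm hE φ
  have hree : Lie.IsoRee ↥S := ⟨E, inferInstance, inferInstance, m, hm, hE, ⟨φ⟩⟩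
  have h10 := ree_rank H hω R hree
  have h6 := H.hn
  rcases (by omega : n = 6 ∨ n = 7 ∨ (8 = n ∨ 8 = n - 1) ∨ n = 10) with rfl | rfl | h | rfl
  · exact ree_six H hω R T
  · exact ree_seven H hω R T
  · exact ree_eight H h hω R T
  · exact ree_ten H hω R hm hE φ

end Cfsg.Agent.R2.Spec.X6
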