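import Cfsg.Agent.R2.Spec.Iface
import Cfsg.Agent.R2.Spec.X6.Classical
import Cfsg.Agent.R2.Spec.X6.NoExc
import Cfsg.Agent.R2.Spec.X6.ReeB
import Cfsg.Agent.R2.Spec.X6.Frame

/-!
# Quasirecognition of `PSL_n(q)`, `PSU_n(q)`, `q` even, `n ≥ 6` (helper2, S3435, box X6)

* `hyp_iso` : `L` with `Hyp e n k F L`;
* `psl` : `PSL_n(q)`, `q = 2 ^ k ≥ 4`, `n ≥ 6`; `psl_char` : the version with `CharP F 2`;
* `psu` : `PSU_n(q)`, `q = 2 ^ k`, `n ≥ 6`; `psu_char`.
-/

set_option autoImplicit false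
set_option linter.unusedSectionVars false

namespace Cfsg.Agent.R2.Spec.X6

open Subgroup Cfsg
open Cfsg.Agent.H420.QR (Red)
open Cfsg.Agent.H426.LieFam (Fam)

universe u v w

/-- **Quasirecognition.** -/
theorem hyp_qr {F : Type w} [Field F] [Fintype F] {e : Bool} {n k : ℕ} {L : Type v} [Group L] [Finite L]
    (H : Hyp e n k F L) : SpecQR.{u, v} L := by
  intro G _ _ hω
  obtain ⟨K, hK, S, hS, R, φ⟩ := exists_iso_of H hω
    (fun K _ S _ R p f t hp hp2 ht hI => no_classical H (Hyp.same hω) R hp hp2 ht hI)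
    (fun K _ S _ R _ p f t hp hp2 hf ht hI => by
      cases t with
      | g2 => exact no_exu H (Hyp.same hω) R hp hp2 hf (t := .g2) trivial hI
      | f4 => exact no_exu H (Hyp.same hω) R hp hp2 hf (t := .f4) trivial hI
      | e6 => exact no_exu H (Hyp.same hω) R hp hp2 hf (t := .e6) trivial hI
      | e7 => exact no_exu H (Hyp.same hω) R hp hp2 hf (t := .e7) trivial hI
      | e8 => exact no_exu H (Hyp.same hω) R hp hp2 hf (t := .e8) trivial hI
      | te6 => exact no_exu H (Hyp.same hω) R hp hp2 hf (t := .te6) trivial hI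
      | td4 => exact no_exu H (Hyp.same hω) R hp hp2 hf (t := .td4) trivial hI
      | ree => exact no_ree H (Hyp.same hω) R hI
      | _ => exact ht)
  exact R.quasi φ

/-- **`PSL_n(q)`, `q = 2 ^ k ≥ 4`, `n ≥ 6`.** -/
theorem psl {F : Type w} [Field F] [Fintype F] {k n : ℕ} (hF : Fintype.card F = 2 ^ k) (hk : 2 ≤ k) (hn : 6 ≤ n) :
    SpecQR.{u, w} (Matrix.ProjectiveSpecialLinearGroup (Fin n) F) := by
  have : Finite (Matrix.SpecialLinearGroup (Fin n) F) := Finite.of_injective _ Subtype.val_injective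
  have : Finite (Matrix.ProjectiveSpecialLinearGroup (Fin n) F) := Quotient.finite _
  exact hyp_qr (e := true) (n := n) (k := k) (F := F)
    ⟨⟨MulEquiv.refl _⟩, by simpa using hF, hn, by omega, fun _ => hk⟩

/-- **`PSU_n(q)`, `q = 2 ^ k`, `n ≥ 6`.** -/
theorem psu {F : Type w} [Field F] [Fintype F] {k n : ℕ} (hF : Fintype.card F = (2 ^ k) ^ 2) (hk : 1 ≤ k) (hn : 6 ≤ n) :
    SpecQR.{u, w} (Cfsg.PSU n F (2 ^ k)) := by
  have : Finite (Cfsg.PSU n F (2 ^ k)) := inferInstance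
  exact hyp_qr (e := false) (n := n) (k := k) (F := F)
    ⟨⟨MulEquiv.refl _⟩, by simpa using hF, hn, hk, fun h => absurd h (by decide)⟩

/-- `PSL_n(q)`, `q > 2` even, `n ≥ 6` -/
theorem psl_char {F : Type w} [Field F] [Fintype F] [CharP F 2] {n : ℕ} (h4 : 4 ≤ Fintype.card F) (hn : 6 ≤ n) :
    SpecQR.{u, w} (Matrix.ProjectiveSpecialLinearGroup (Fin n) F) := by
  obtain ⟨k, -, hF⟩ := FiniteField.card F 2
  refine psl hF ?_ hn
  by_contra hcon
  have h1 : (k : ℕ) ≤ 1 := by omega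
  have h2 : 2 ^ (k : ℕ) ≤ 2 ^ 1 := Nat.pow_le_pow_right (by norm_num) h1
  omega

/-- `PSU_n(q)`, `q` even, `n ≥ 6` -/
theorem psu_char {F : Type w} [Field F] [Fintype F] [CharP F 2] {n q : ℕ} (hF : Fintype.card F = q ^ 2) (hn : 6 ≤ n) :
    SpecQR.{u, w} (Cfsg.PSU n F q) := by
  obtain ⟨m, -, hm⟩ := FiniteField.card F 2
  have h1 : q ∣ 2 ^ (m : ℕ) := by
    rw [← hm, hF]
    exact dvd_pow_self q (by norm_num)
  obtain ⟨k, -, rfl⟩ := (Nat.dvd_prime_pow Nat.prime_two).1 h1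
  refine psu hF ?_ hn
  rw [Nat.one_le_iff_ne_zero]
  rintro rfl
  have h2 := Fintype.one_lt_card (α := F)
  rw [hF] at h2
  norm_num at h2

end Cfsg.Agent.R2.Spec.X6
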