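import Cfsg.Agent.R2.Spec.X6.ExcNum

/-!
# `PSL_n(q)`, `PSU_n(q)`, `q = 2 ^ k`, `n ≥ 6`: the exceptional families of odd characteristic (helper2, S3435, box X6)
-/

set_option autoImplicit false
set_option linter.unusedSectionVars false

namespace Cfsg.Agent.R2.Spec.X6

open Subgroup Cfsg Cfsg.Agent.H403 Cfsg.Agent.H403.NumTop Cfsg.Agent.H321.SpecEven
open Cfsg.Agent.H420.QR (Red)
open Cfsg.Agent.H426.LieFam (Fam)
open Cfsg.Agent.H77.E4Num Cfsg.Agent.H77.E4Poly Cfsg.Agent.H588.ZsigPart Cfsg.Agent.H77.E4Fin
open Cfsg.Agent.H77.E4Cls Cfsg.Agent.H77.E4XD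

universe u v w

/-- `G2` -/
theorem num_G2 {e : Bool} {n k u : ℕ} (hn : 6 ≤ n) (hn2 : n ≤ 10) (hk : 1 ≤ k) (he : e = true → 2 ≤ k) (hu : 3 ≤ u)
    (ho : Odd u) (h : NumL (2 ^ k) n [nu e n, nu e (n - 1)] (nG2 u) 1 u [3, 6]) : False := by
  have h1 : 5 ≤ n := (h.up 3 (xG2.two u ho)).1
  interval_cases n
  · cases e with
    | true => exact G2_L6 (he rfl) hu ho (by simpa [nu] using h)
    | false => exact G2_U6 hk hu ho (by simpa [nu] using h)
  · cases e with
    | true => exact G2_L7 (he rfl) hu ho (by simpa [nu] using h)
    | false => exact G2_U7 hk hu ho (by simpa [nu] using h)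
  · cases e with
    | true => exact G2_L8 (he rfl) hu ho (by simpa [nu] using h)
    | false => exact G2_U8 hk hu ho (by simpa [nu] using h)
  · cases e with
    | true => exact G2_L9 (he rfl) hu ho (by simpa [nu] using h)
    | false => exact G2_U9 hk hu ho (by simpa [nu] using h)
  · cases e with
    | true => exact G2_L10 (he rfl) hu ho (by simpa [nu] using h)
    | false => exact G2_U10 hk hu ho (by simpa [nu] using h)

/-- `D4` -/
theorem num_D4 {e : Bool} {n k u : ℕ} (hn : 6 ≤ n) (hn2 : n ≤ 10) (hk : 1 ≤ k) (he : e = true → 2 ≤ k) (hu : 3 ≤ u)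
    (ho : Odd u) (h : NumL (2 ^ k) n [nu e n, nu e (n - 1)] (nD4 u) 1 u [12]) : False := by
  have h1 : 5 ≤ n := (h.up 3 (xD4.two u ho)).1
  interval_cases n
  · cases e with
    | true => exact D4_L6 (he rfl) hu ho (by simpa [nu] using h)
    | false => exact D4_U6 hk hu ho (by simpa [nu] using h)
  · cases e with
    | true => exact D4_L7 (he rfl) hu ho (by simpa [nu] using h)
    | false => exact D4_U7 hk hu ho (by simpa [nu] using h)
  · cases e with
    | true => exact D4_L8 (he rfl) hu ho (by simpa [nu] using h)
    | false => exact D4_U8 hk hu ho (by simpa [nu] using h)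
  · cases e with
    | true => exact D4_L9 (he rfl) hu ho (by simpa [nu] using h)
    | false => exact D4_U9 hk hu ho (by simpa [nu] using h)
  · cases e with
    | true => exact D4_L10 (he rfl) hu ho (by simpa [nu] using h)
    | false => exact D4_U10 hk hu ho (by simpa [nu] using h)

/-- `F4` -/
theorem num_F4 {e : Bool} {n k u : ℕ} (hn : 6 ≤ n) (hn2 : n ≤ 14) (hk : 1 ≤ k) (he : e = true → 2 ≤ k) (hu : 3 ≤ u)
    (ho : Odd u) (h : NumL (2 ^ k) n [nu e n, nu e (n - 1)] (nF4 u) 1 u [12]) : False := by
  have h1 : 5 ≤ n := (h.up 3 (xF4.two u ho)).1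
  interval_cases n
  · cases e with
    | true => exact F4_L6 (he rfl) hu ho (by simpa [nu] using h)
    | false => exact F4_U6 hk hu ho (by simpa [nu] using h)
  · cases e with
    | true => exact F4_L7 (he rfl) hu ho (by simpa [nu] using h)
    | false => exact F4_U7 hk hu ho (by simpa [nu] using h)
  · cases e with
    | true => exact F4_L8 (he rfl) hu ho (by simpa [nu] using h)
    | false => exact F4_U8 hk hu ho (by simpa [nu] using h)
  · cases e with
    | true => exact F4_L9 (he rfl) hu ho (by simpa [nu] using h)
    | false => exact F4_U9 hk hu ho (by simpa [nu] using h)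
  · cases e with
    | true => exact F4_L10 (he rfl) hu ho (by simpa [nu] using h)
    | false => exact F4_U10 hk hu ho (by simpa [nu] using h)
  · cases e with
    | true => exact F4_L11 (he rfl) hu ho (by simpa [nu] using h)
    | false => exact F4_U11 hk hu ho (by simpa [nu] using h)
  · cases e with
    | true => exact F4_L12 (he rfl) hu ho (by simpa [nu] using h)
    | false => exact F4_U12 hk hu ho (by simpa [nu] using h)
  · cases e with
    | true => exact F4_L13 (he rfl) hu ho (by simpa [nu] using h)
    | false => exact F4_U13 hk hu ho (by simpa [nu] using h)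
  · cases e with
    | true => exact F4_L14 (he rfl) hu ho (by simpa [nu] using h)
    | false => exact F4_U14 hk hu ho (by simpa [nu] using h)

/-- `E6` -/
theorem num_E6 {e : Bool} {n k u : ℕ} (hn : 6 ≤ n) (hn2 : n ≤ 14) (hk : 1 ≤ k) (he : e = true → 2 ≤ k) (hu : 3 ≤ u)
    (ho : Odd u) (h : NumL (2 ^ k) n [nu e n, nu e (n - 1)] (nE6 u) 3 u [8, 9, 12]) : False := by
  have h1 : 9 ≤ n := (h.up 4 (xE6.two u ho)).1
  interval_cases n
  · cases e with
    | true => exact E6_L9 (he rfl) hu ho (by simpa [nu] using h)
    | false => exact E6_U9 hk hu ho (by simpa [nu] using h)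
  · cases e with
    | true => exact E6_L10 (he rfl) hu ho (by simpa [nu] using h)
    | false => exact E6_U10 hk hu ho (by simpa [nu] using h)
  · cases e with
    | true => exact E6_L11 (he rfl) hu ho (by simpa [nu] using h)
    | false => exact E6_U11 hk hu ho (by simpa [nu] using h)
  · cases e with
    | true => exact E6_L12 (he rfl) hu ho (by simpa [nu] using h)
    | false => exact E6_U12 hk hu ho (by simpa [nu] using h)
  · cases e with
    | true => exact E6_L13 (he rfl) hu ho (by simpa [nu] using h)
    | false => exact E6_U13 hk hu ho (by simpa [nu] using h)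
  · cases e with
    | true => exact E6_L14 (he rfl) hu ho (by simpa [nu] using h)
    | false => exact E6_U14 hk hu ho (by simpa [nu] using h)

/-- `T6` -/
theorem num_T6 {e : Bool} {n k u : ℕ} (hn : 6 ≤ n) (hn2 : n ≤ 14) (hk : 1 ≤ k) (he : e = true → 2 ≤ k) (hu : 3 ≤ u)
    (ho : Odd u) (h : NumL (2 ^ k) n [nu e n, nu e (n - 1)] (nT6 u) 3 u [12, 18]) : False := by
  have h1 : 9 ≤ n := (h.up 4 (xT6.two u ho)).1
  interval_cases n
  · cases e with
    | true => exact T6_L9 (he rfl) hu ho (by simpa [nu] using h)
    | false => exact T6_U9 hk hu ho (by simpa [nu] using h)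
  · cases e with
    | true => exact T6_L10 (he rfl) hu ho (by simpa [nu] using h)
    | false => exact T6_U10 hk hu ho (by simpa [nu] using h)
  · cases e with
    | true => exact T6_L11 (he rfl) hu ho (by simpa [nu] using h)
    | false => exact T6_U11 hk hu ho (by simpa [nu] using h)
  · cases e with
    | true => exact T6_L12 (he rfl) hu ho (by simpa [nu] using h)
    | false => exact T6_U12 hk hu ho (by simpa [nu] using h)
  · cases e with
    | true => exact T6_L13 (he rfl) hu ho (by simpa [nu] using h)
    | false => exact T6_U13 hk hu ho (by simpa [nu] using h)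
  · cases e with
    | true => exact T6_L14 (he rfl) hu ho (by simpa [nu] using h)
    | false => exact T6_U14 hk hu ho (by simpa [nu] using h)

/-- `E7` -/
theorem num_E7 {e : Bool} {n k u : ℕ} (hn : 6 ≤ n) (hn2 : n ≤ 20) (hk : 1 ≤ k) (he : e = true → 2 ≤ k) (hu : 3 ≤ u)
    (ho : Odd u) (h : NumL (2 ^ k) n [nu e n, nu e (n - 1)] (nE6 u) 3 u [7, 9, 12, 14, 18]) : False := by
  have h1 : 9 ≤ n := (h.up 4 (xE7.two u ho)).1
  interval_cases n
  · cases e with
    | true => exact E7_L9 (he rfl) hu ho (by simpa [nu] using h)
    | false => exact E7_U9 hk hu ho (by simpa [nu] using h)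
  · cases e with
    | true => exact E7_L10 (he rfl) hu ho (by simpa [nu] using h)
    | false => exact E7_U10 hk hu ho (by simpa [nu] using h)
  · cases e with
    | true => exact E7_L11 (he rfl) hu ho (by simpa [nu] using h)
    | false => exact E7_U11 hk hu ho (by simpa [nu] using h)
  · cases e with
    | true => exact E7_L12 (he rfl) hu ho (by simpa [nu] using h)
    | false => exact E7_U12 hk hu ho (by simpa [nu] using h)
  · cases e with
    | true => exact E7_L13 (he rfl) hu ho (by simpa [nu] using h)
    | false => exact E7_U13 hk hu ho (by simpa [nu] using h)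
  · cases e with
    | true => exact E7_L14 (he rfl) hu ho (by simpa [nu] using h)
    | false => exact E7_U14 hk hu ho (by simpa [nu] using h)
  · cases e with
    | true => exact E7_L15 (he rfl) hu ho (by simpa [nu] using h)
    | false => exact E7_U15 hk hu ho (by simpa [nu] using h)
  · cases e with
    | true => exact E7_L16 (he rfl) hu ho (by simpa [nu] using h)
    | false => exact E7_U16 hk hu ho (by simpa [nu] using h)
  · cases e with
    | true => exact E7_L17 (he rfl) hu ho (by simpa [nu] using h)
    | false => exact E7_U17 hk hu ho (by simpa [nu] using h)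
  · cases e with
    | true => exact E7_L18 (he rfl) hu ho (by simpa [nu] using h)
    | false => exact E7_U18 hk hu ho (by simpa [nu] using h)
  · cases e with
    | true => exact E7_L19 (he rfl) hu ho (by simpa [nu] using h)
    | false => exact E7_U19 hk hu ho (by simpa [nu] using h)
  · cases e with
    | true => exact E7_L20 (he rfl) hu ho (by simpa [nu] using h)
    | false => exact E7_U20 hk hu ho (by simpa [nu] using h)

/-- `E8` -/
theorem num_E8 {e : Bool} {n k u : ℕ} (hn : 6 ≤ n) (hn2 : n ≤ 28) (hk : 1 ≤ k) (he : e = true → 2 ≤ k) (hu : 3 ≤ u)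
    (ho : Odd u) (h : NumL (2 ^ k) n [nu e n, nu e (n - 1)] (nE8 u) 1 u [15, 20, 24, 30]) : False := by
  have h1 : 17 ≤ n := (h.up 5 (xE8.two u ho)).1
  interval_cases n
  · cases e with
    | true => exact E8_L17 (he rfl) hu ho (by simpa [nu] using h)
    | false => exact E8_U17 hk hu ho (by simpa [nu] using h)
  · cases e with
    | true => exact E8_L18 (he rfl) hu ho (by simpa [nu] using h)
    | false => exact E8_U18 hk hu ho (by simpa [nu] using h)
  · cases e with
    | true => exact E8_L19 (he rfl) hu ho (by simpa [nu] using h)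
    | false => exact E8_U19 hk hu ho (by simpa [nu] using h)
  · cases e with
    | true => exact E8_L20 (he rfl) hu ho (by simpa [nu] using h)
    | false => exact E8_U20 hk hu ho (by simpa [nu] using h)
  · cases e with
    | true => exact E8_L21 (he rfl) hu ho (by simpa [nu] using h)
    | false => exact E8_U21 hk hu ho (by simpa [nu] using h)
  · cases e with
    | true => exact E8_L22 (he rfl) hu ho (by simpa [nu] using h)
    | false => exact E8_U22 hk hu ho (by simpa [nu] using h)
  · cases e with
    | true => exact E8_L23 (he rfl) hu ho (by simpa [nu] using h)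
    | false => exact E8_U23 hk hu ho (by simpa [nu] using h)
  · cases e with
    | true => exact E8_L24 (he rfl) hu ho (by simpa [nu] using h)
    | false => exact E8_U24 hk hu ho (by simpa [nu] using h)
  · cases e with
    | true => exact E8_L25 (he rfl) hu ho (by simpa [nu] using h)
    | false => exact E8_U25 hk hu ho (by simpa [nu] using h)
  · cases e with
    | true => exact E8_L26 (he rfl) hu ho (by simpa [nu] using h)
    | false => exact E8_U26 hk hu ho (by simpa [nu] using h)
  · cases e with
    | true => exact E8_L27 (he rfl) hu ho (by simpa [nu] using h)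
    | false => exact E8_U27 hk hu ho (by simpa [nu] using h)
  · cases e with
    | true => exact E8_L28 (he rfl) hu ho (by simpa [nu] using h)
    | false => exact E8_U28 hk hu ho (by simpa [nu] using h)

end Cfsg.Agent.R2.Spec.X6
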