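import Cfsg.Agent.R2.Spec.X6.ExcFin

/-!
# Numerical contradictions: G2, D4 (helper2, S3435, box X6)
-/

set_option autoImplicit false
set_option maxRecDepth 100000

namespace Cfsg.Agent.R2.Spec.X6

open Cfsg.Agent.H77.E4Num Cfsg.Agent.H77.E4Fin Cfsg.Agent.H77.E4XD

theorem G2_L6 {f u : ℕ} (hf : 2 ≤ f) (hu : 3 ≤ u) (ho : Odd u)
    (h : NumL (2 ^ f) 6 [6, 5] (nG2 u) 1 u [3, 6]) : False := by
  by_cases h0 : 3 ≤ f
  · exact anaL (e := 5) (P := 5) (Q := 2 ^ 3) xG2 h hu ho (by decide) (by norm_num) (by norm_num) (by norm_num)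
      (hmax_of (by norm_num) (by decide +kernel)) (by norm_num) (Nat.pow_le_pow_right (by norm_num) h0)
      (by decide +kernel) (by decide +kernel)
  · have h1 : f < 3 := not_le.1 h0
    interval_cases f
    · exact sqL (e := 5) (B := 341) h hu ho (by decide) (by decide +kernel) (U := 10) (by decide +kernel) [] (by decide +kernel)
        (by decide +kernel)

theorem G2_U6 {f u : ℕ} (hf : 1 ≤ f) (hu : 3 ≤ u) (ho : Odd u)
    (h : NumL (2 ^ f) 6 [3, 10] (nG2 u) 1 u [3, 6]) : False := by
  by_cases h0 : 3 ≤ f
  · exact anaL (e := 10) (P := 5) (Q := 2 ^ 3) xG2 h hu ho (by decide) (by norm_num) (by norm_num) (by norm_num)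
      (hmax_of (by norm_num) (by decide +kernel)) (by norm_num) (Nat.pow_le_pow_right (by norm_num) h0)
      (by decide +kernel) (by decide +kernel)
  · have h1 : f < 3 := not_le.1 h0
    interval_cases f
    · exact sqL (e := 10) (B := 11) h hu ho (by decide) (by decide +kernel) (U := 8) (by decide +kernel) [6, 11, 14] (by decide +kernel)
        (by decide +kernel)
    · exact sqL (e := 10) (B := 41) h hu ho (by decide) (by decide +kernel) (U := 10) (by decide +kernel) [12] (by decide +kernel)
        (by decide +kernel)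

theorem G2_L7 {f u : ℕ} (hf : 2 ≤ f) (hu : 3 ≤ u) (ho : Odd u)
    (h : NumL (2 ^ f) 7 [7, 6] (nG2 u) 1 u [3, 6]) : False := by
  by_cases h0 : 3 ≤ f
  · exact anaL (e := 7) (P := 7) (Q := 2 ^ 3) xG2 h hu ho (by decide) (by norm_num) (by norm_num) (by norm_num)
      (hmax_of (by norm_num) (by decide +kernel)) (by norm_num) (Nat.pow_le_pow_right (by norm_num) h0)
      (by decide +kernel) (by decide +kernel)
  · have h1 : f < 3 := not_le.1 h0
    interval_cases f
    · exact sqL (e := 7) (B := 5461) h hu ho (by decide) (by decide +kernel) (U := 20) (by decide +kernel) [] (by decide +kernel)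
        (by decide +kernel)

theorem G2_U7 {f u : ℕ} (hf : 1 ≤ f) (hu : 3 ≤ u) (ho : Odd u)
    (h : NumL (2 ^ f) 7 [14, 3] (nG2 u) 1 u [3, 6]) : False := by
  by_cases h0 : 3 ≤ f
  · exact anaL (e := 14) (P := 7) (Q := 2 ^ 3) xG2 h hu ho (by decide) (by norm_num) (by norm_num) (by norm_num)
      (hmax_of (by norm_num) (by decide +kernel)) (by norm_num) (Nat.pow_le_pow_right (by norm_num) h0)
      (by decide +kernel) (by decide +kernel)
  · have h1 : f < 3 := not_le.1 h0
    interval_cases f
    · exact finL xG2 h hu ho [(14, 43), (3, 7)] 4 (by decide +kernel) (by decide +kernel) (by decide +kernel)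
    · exact sqL (e := 14) (B := 3277) h hu ho (by decide) (by decide +kernel) (U := 20) (by decide +kernel) [] (by decide +kernel)
        (by decide +kernel)

theorem G2_L8 {f u : ℕ} (hf : 2 ≤ f) (hu : 3 ≤ u) (ho : Odd u)
    (h : NumL (2 ^ f) 8 [8, 7] (nG2 u) 1 u [3, 6]) : False := by
  by_cases h0 : 4 ≤ f
  · exact anaL (e := 7) (P := 7) (Q := 2 ^ 4) xG2 h hu ho (by decide) (by norm_num) (by norm_num) (by norm_num)
      (hmax_of (by norm_num) (by decide +kernel)) (by norm_num) (Nat.pow_le_pow_right (by norm_num) h0)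
      (by decide +kernel) (by decide +kernel)
  · have h1 : f < 4 := not_le.1 h0
    interval_cases f
    · exact sqL (e := 8) (B := 257) h hu ho (by decide) (by decide +kernel) (U := 40) (by decide +kernel) [32, 55, 71] (by decide +kernel)
        (by decide +kernel)
    · exact sqL (e := 8) (B := 4097) h hu ho (by decide) (by decide +kernel) (U := 111) (by decide +kernel) [128, 221] (by decide +kernel)
        (by decide +kernel)

theorem G2_U8 {f u : ℕ} (hf : 1 ≤ f) (hu : 3 ≤ u) (ho : Odd u)
    (h : NumL (2 ^ f) 8 [8, 14] (nG2 u) 1 u [3, 6]) : False := by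
  by_cases h0 : 4 ≤ f
  · exact anaL (e := 14) (P := 7) (Q := 2 ^ 4) xG2 h hu ho (by decide) (by norm_num) (by norm_num) (by norm_num)
      (hmax_of (by norm_num) (by decide +kernel)) (by norm_num) (Nat.pow_le_pow_right (by norm_num) h0)
      (by decide +kernel) (by decide +kernel)
  · have h1 : f < 4 := not_le.1 h0
    interval_cases f
    · exact sqL (e := 8) (B := 17) h hu ho (by decide) (by decide +kernel) (U := 14) (by decide +kernel) [8, 14, 18, 21, 24, 27] (by decide +kernel)
        (by decide +kernel)
    · exact sqL (e := 8) (B := 257) h hu ho (by decide) (by decide +kernel) (U := 40) (by decide +kernel) [32, 55, 71] (by decide +kernel)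
        (by decide +kernel)
    · exact sqL (e := 8) (B := 4097) h hu ho (by decide) (by decide +kernel) (U := 111) (by decide +kernel) [128, 221] (by decide +kernel)
        (by decide +kernel)

theorem G2_L9 {f u : ℕ} (hf : 2 ≤ f) (hu : 3 ≤ u) (ho : Odd u)
    (h : NumL (2 ^ f) 9 [9, 8] (nG2 u) 1 u [3, 6]) : False := by
  by_cases h0 : 4 ≤ f
  · exact anaL (e := 9) (P := 3) (Q := 2 ^ 4) xG2 h hu ho (by decide) (by norm_num) (by norm_num) (by norm_num)
      (hmax_of (by norm_num) (by decide +kernel)) (by norm_num) (Nat.pow_le_pow_right (by norm_num) h0)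
      (by decide +kernel) (by decide +kernel)
  · have h1 : f < 4 := not_le.1 h0
    interval_cases f
    · exact sqL (e := 8) (B := 257) h hu ho (by decide) (by decide +kernel) (U := 79) (by decide +kernel) [32, 55, 71, 84, 96, 106, 115, 124, 132, 139, 146, 153] (by decide +kernel)
        (by decide +kernel)
    · exact sqL (e := 9) (B := 262657) h hu ho (by decide) (by decide +kernel) (U := 314) (by decide +kernel) [] (by decide +kernel)
        (by decide +kernel)

theorem G2_U9 {f u : ℕ} (hf : 1 ≤ f) (hu : 3 ≤ u) (ho : Odd u)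
    (h : NumL (2 ^ f) 9 [18, 8] (nG2 u) 1 u [3, 6]) : False := by
  by_cases h0 : 4 ≤ f
  · exact anaL (e := 18) (P := 3) (Q := 2 ^ 4) xG2 h hu ho (by decide) (by norm_num) (by norm_num) (by norm_num)
      (hmax_of (by norm_num) (by decide +kernel)) (by norm_num) (Nat.pow_le_pow_right (by norm_num) h0)
      (by decide +kernel) (by decide +kernel)
  · have h1 : f < 4 := not_le.1 h0
    interval_cases f
    · exact sqL (e := 8) (B := 17) h hu ho (by decide) (by decide +kernel) (U := 20) (by decide +kernel) [8, 14, 18, 21, 24, 27, 29, 31, 33, 35, 37, 39] (by decide +kernel)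
        (by decide +kernel)
    · exact sqL (e := 8) (B := 257) h hu ho (by decide) (by decide +kernel) (U := 79) (by decide +kernel) [32, 55, 71, 84, 96, 106, 115, 124, 132, 139, 146, 153] (by decide +kernel)
        (by decide +kernel)
    · exact sqL (e := 18) (B := 87211) h hu ho (by decide) (by decide +kernel) (U := 314) (by decide +kernel) [590] (by decide +kernel)
        (by decide +kernel)

theorem G2_L10 {f u : ℕ} (hf : 2 ≤ f) (hu : 3 ≤ u) (ho : Odd u)
    (h : NumL (2 ^ f) 10 [10, 9] (nG2 u) 1 u [3, 6]) : False := by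
  by_cases h0 : 8 ≤ f
  · exact anaL (e := 9) (P := 3) (Q := 2 ^ 8) xG2 h hu ho (by decide) (by norm_num) (by norm_num) (by norm_num)
      (hmax_of (by norm_num) (by decide +kernel)) (by norm_num) (Nat.pow_le_pow_right (by norm_num) h0)
      (by decide +kernel) (by decide +kernel)
  · have h1 : f < 8 := not_le.1 h0
    interval_cases f
    · exact finL xG2 h hu ho [(10, 41), (9, 1387)] 77 (by decide +kernel) (by decide +kernel) (by decide +kernel)
    · exact finL xG2 h hu ho [(10, 3641), (9, 262657)] 442 (by decide +kernel) (by decide +kernel) (by decide +kernel)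
    · exact finL xG2 h hu ho [(10, 61681), (9, 5593771)] 2507 (by decide +kernel) (by decide +kernel) (by decide +kernel)
    · exact sqL (e := 9) (B := 1073774593) h hu ho (by decide) (by decide +kernel) (U := 28378) (by decide +kernel) [] (by decide +kernel)
        (by decide +kernel)
    · exact sqL (e := 9) (B := 22906579627) h hu ho (by decide) (by decide +kernel) (U := 160530) (by decide +kernel) [302698] (by decide +kernel)
        (by decide +kernel)
    · exact sqL (e := 9) (B := 4398048608257) h hu ho (by decide) (by decide +kernel) (U := 908094) (by decide +kernel) [] (by decide +kernel)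
        (by decide +kernel)

theorem G2_U10 {f u : ℕ} (hf : 1 ≤ f) (hu : 3 ≤ u) (ho : Odd u)
    (h : NumL (2 ^ f) 10 [5, 18] (nG2 u) 1 u [3, 6]) : False := by
  by_cases h0 : 8 ≤ f
  · exact anaL (e := 18) (P := 3) (Q := 2 ^ 8) xG2 h hu ho (by decide) (by norm_num) (by norm_num) (by norm_num)
      (hmax_of (by norm_num) (by decide +kernel)) (by norm_num) (Nat.pow_le_pow_right (by norm_num) h0)
      (by decide +kernel) (by decide +kernel)
  · have h1 : f < 8 := not_le.1 h0
    interval_cases f
    · exact finL xG2 h hu ho [(5, 31), (18, 19)] 13 (by decide +kernel) (by decide +kernel) (by decide +kernel)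
    · exact finL xG2 h hu ho [(5, 341), (18, 4033)] 77 (by decide +kernel) (by decide +kernel) (by decide +kernel)
    · exact finL xG2 h hu ho [(5, 4681), (18, 87211)] 442 (by decide +kernel) (by decide +kernel) (by decide +kernel)
    · exact finL xG2 h hu ho [(5, 13981), (18, 16773121)] 2507 (by decide +kernel) (by decide +kernel) (by decide +kernel)
    · exact sqL (e := 18) (B := 357903019) h hu ho (by decide) (by decide +kernel) (U := 28378) (by decide +kernel) [37836] (by decide +kernel)
        (by decide +kernel)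
    · exact sqL (e := 18) (B := 68719214593) h hu ho (by decide) (by decide +kernel) (U := 160530) (by decide +kernel) [] (by decide +kernel)
        (by decide +kernel)
    · exact sqL (e := 18) (B := 1466014804651) h hu ho (by decide) (by decide +kernel) (U := 908094) (by decide +kernel) [] (by decide +kernel)
        (by decide +kernel)

theorem D4_L6 {f u : ℕ} (hf : 2 ≤ f) (hu : 3 ≤ u) (ho : Odd u)
    (h : NumL (2 ^ f) 6 [6, 5] (nD4 u) 1 u [12]) : False := by
  by_cases h0 : 3 ≤ f
  · exact anaL (e := 5) (P := 5) (Q := 2 ^ 3) xD4 h hu ho (by decide) (by norm_num) (by norm_num) (by norm_num)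
      (hmax_of (by norm_num) (by decide +kernel)) (by norm_num) (Nat.pow_le_pow_right (by norm_num) h0)
      (by decide +kernel) (by decide +kernel)
  · have h1 : f < 3 := not_le.1 h0
    interval_cases f
    · exact finL xD4 h hu ho [(6, 13), (5, 341)] 0 (by decide +kernel) (by decide +kernel) (by decide +kernel)

theorem D4_U6 {f u : ℕ} (hf : 1 ≤ f) (hu : 3 ≤ u) (ho : Odd u)
    (h : NumL (2 ^ f) 6 [3, 10] (nD4 u) 1 u [12]) : False := by
  by_cases h0 : 3 ≤ f
  · exact anaL (e := 10) (P := 5) (Q := 2 ^ 3) xD4 h hu ho (by decide) (by norm_num) (by norm_num) (by norm_num)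
      (hmax_of (by norm_num) (by decide +kernel)) (by norm_num) (Nat.pow_le_pow_right (by norm_num) h0)
      (by decide +kernel) (by decide +kernel)
  · have h1 : f < 3 := not_le.1 h0
    interval_cases f
    · exact finL xD4 h hu ho [(3, 7), (10, 11)] 0 (by decide +kernel) (by decide +kernel) (by decide +kernel)
    · exact finL xD4 h hu ho [(3, 7), (10, 41)] 0 (by decide +kernel) (by decide +kernel) (by decide +kernel)

theorem D4_L7 {f u : ℕ} (hf : 2 ≤ f) (hu : 3 ≤ u) (ho : Odd u)
    (h : NumL (2 ^ f) 7 [7, 6] (nD4 u) 1 u [12]) : False := by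
  by_cases h0 : 3 ≤ f
  · exact anaL (e := 7) (P := 7) (Q := 2 ^ 3) xD4 h hu ho (by decide) (by norm_num) (by norm_num) (by norm_num)
      (hmax_of (by norm_num) (by decide +kernel)) (by norm_num) (Nat.pow_le_pow_right (by norm_num) h0)
      (by decide +kernel) (by decide +kernel)
  · have h1 : f < 3 := not_le.1 h0
    interval_cases f
    · exact finL xD4 h hu ho [(7, 5461), (6, 13)] 1 (by decide +kernel) (by decide +kernel) (by decide +kernel)

theorem D4_U7 {f u : ℕ} (hf : 1 ≤ f) (hu : 3 ≤ u) (ho : Odd u)
    (h : NumL (2 ^ f) 7 [14, 3] (nD4 u) 1 u [12]) : False := by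
  by_cases h0 : 3 ≤ f
  · exact anaL (e := 14) (P := 7) (Q := 2 ^ 3) xD4 h hu ho (by decide) (by norm_num) (by norm_num) (by norm_num)
      (hmax_of (by norm_num) (by decide +kernel)) (by norm_num) (Nat.pow_le_pow_right (by norm_num) h0)
      (by decide +kernel) (by decide +kernel)
  · have h1 : f < 3 := not_le.1 h0
    interval_cases f
    · exact finL xD4 h hu ho [(14, 43), (3, 7)] 0 (by decide +kernel) (by decide +kernel) (by decide +kernel)
    · exact finL xD4 h hu ho [(14, 3277), (3, 7)] 1 (by decide +kernel) (by decide +kernel) (by decide +kernel)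

theorem D4_L8 {f u : ℕ} (hf : 2 ≤ f) (hu : 3 ≤ u) (ho : Odd u)
    (h : NumL (2 ^ f) 8 [8, 7] (nD4 u) 1 u [12]) : False := by
  by_cases h0 : 2 ≤ f
  · exact ana2L (e := 8) (e' := 7) (P := 2) (P' := 7) (Q := 2 ^ 2) xD4 h hu ho (by decide) (by decide)
      (by norm_num) (by norm_num) (by norm_num) (by norm_num) (by norm_num)
      (hmax_of (by norm_num) (by decide +kernel)) (by norm_num) (hmax_of (by norm_num) (by decide +kernel)) (by norm_num)
      (Nat.pow_le_pow_right (by norm_num) h0) (by decide +kernel) (by decide +kernel) (by decide +kernel) (by decide +kernel)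
  · omega

theorem D4_U8 {f u : ℕ} (hf : 1 ≤ f) (hu : 3 ≤ u) (ho : Odd u)
    (h : NumL (2 ^ f) 8 [8, 14] (nD4 u) 1 u [12]) : False := by
  by_cases h0 : 2 ≤ f
  · exact ana2L (e := 14) (e' := 8) (P := 7) (P' := 2) (Q := 2 ^ 2) xD4 h hu ho (by decide) (by decide)
      (by norm_num) (by norm_num) (by norm_num) (by norm_num) (by norm_num)
      (hmax_of (by norm_num) (by decide +kernel)) (by norm_num) (hmax_of (by norm_num) (by decide +kernel)) (by norm_num)
      (Nat.pow_le_pow_right (by norm_num) h0) (by decide +kernel) (by decide +kernel) (by decide +kernel) (by decide +kernel)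
  · have h1 : f < 2 := not_le.1 h0
    interval_cases f
    · exact finL xD4 h hu ho [(8, 17), (14, 43)] 1 (by decide +kernel) (by decide +kernel) (by decide +kernel)

theorem D4_L9 {f u : ℕ} (hf : 2 ≤ f) (hu : 3 ≤ u) (ho : Odd u)
    (h : NumL (2 ^ f) 9 [9, 8] (nD4 u) 1 u [12]) : False := by
  by_cases h0 : 3 ≤ f
  · exact ana2L (e := 9) (e' := 8) (P := 3) (P' := 2) (Q := 2 ^ 3) xD4 h hu ho (by decide) (by decide)
      (by norm_num) (by norm_num) (by norm_num) (by norm_num) (by norm_num)
      (hmax_of (by norm_num) (by decide +kernel)) (by norm_num) (hmax_of (by norm_num) (by decide +kernel)) (by norm_num)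
      (Nat.pow_le_pow_right (by norm_num) h0) (by decide +kernel) (by decide +kernel) (by decide +kernel) (by decide +kernel)
  · have h1 : f < 3 := not_le.1 h0
    interval_cases f
    · exact finL xD4 h hu ho [(9, 1387), (8, 257)] 3 (by decide +kernel) (by decide +kernel) (by decide +kernel)

theorem D4_U9 {f u : ℕ} (hf : 1 ≤ f) (hu : 3 ≤ u) (ho : Odd u)
    (h : NumL (2 ^ f) 9 [18, 8] (nD4 u) 1 u [12]) : False := by
  by_cases h0 : 3 ≤ f
  · exact ana2L (e := 18) (e' := 8) (P := 3) (P' := 2) (Q := 2 ^ 3) xD4 h hu ho (by decide) (by decide)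
      (by norm_num) (by norm_num) (by norm_num) (by norm_num) (by norm_num)
      (hmax_of (by norm_num) (by decide +kernel)) (by norm_num) (hmax_of (by norm_num) (by decide +kernel)) (by norm_num)
      (Nat.pow_le_pow_right (by norm_num) h0) (by decide +kernel) (by decide +kernel) (by decide +kernel) (by decide +kernel)
  · have h1 : f < 3 := not_le.1 h0
    interval_cases f
    · exact finL xD4 h hu ho [(18, 19), (8, 17)] 1 (by decide +kernel) (by decide +kernel) (by decide +kernel)
    · exact finL xD4 h hu ho [(18, 4033), (8, 257)] 3 (by decide +kernel) (by decide +kernel) (by decide +kernel)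

theorem D4_L10 {f u : ℕ} (hf : 2 ≤ f) (hu : 3 ≤ u) (ho : Odd u)
    (h : NumL (2 ^ f) 10 [10, 9] (nD4 u) 1 u [12]) : False := by
  by_cases h0 : 3 ≤ f
  · exact ana2L (e := 10) (e' := 9) (P := 5) (P' := 3) (Q := 2 ^ 3) xD4 h hu ho (by decide) (by decide)
      (by norm_num) (by norm_num) (by norm_num) (by norm_num) (by norm_num)
      (hmax_of (by norm_num) (by decide +kernel)) (by norm_num) (hmax_of (by norm_num) (by decide +kernel)) (by norm_num)
      (Nat.pow_le_pow_right (by norm_num) h0) (by decide +kernel) (by decide +kernel) (by decide +kernel) (by decide +kernel)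
  · have h1 : f < 3 := not_le.1 h0
    interval_cases f
    · exact finL xD4 h hu ho [(10, 41), (9, 1387)] 5 (by decide +kernel) (by decide +kernel) (by decide +kernel)

theorem D4_U10 {f u : ℕ} (hf : 1 ≤ f) (hu : 3 ≤ u) (ho : Odd u)
    (h : NumL (2 ^ f) 10 [5, 18] (nD4 u) 1 u [12]) : False := by
  by_cases h0 : 3 ≤ f
  · exact ana2L (e := 18) (e' := 5) (P := 3) (P' := 5) (Q := 2 ^ 3) xD4 h hu ho (by decide) (by decide)
      (by norm_num) (by norm_num) (by norm_num) (by norm_num) (by norm_num)
      (hmax_of (by norm_num) (by decide +kernel)) (by norm_num) (hmax_of (by norm_num) (by decide +kernel)) (by norm_num)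
      (Nat.pow_le_pow_right (by norm_num) h0) (by decide +kernel) (by decide +kernel) (by decide +kernel) (by decide +kernel)
  · have h1 : f < 3 := not_le.1 h0
    interval_cases f
    · exact finL xD4 h hu ho [(5, 31), (18, 19)] 2 (by decide +kernel) (by decide +kernel) (by decide +kernel)
    · exact finL xD4 h hu ho [(5, 341), (18, 4033)] 5 (by decide +kernel) (by decide +kernel) (by decide +kernel)

end Cfsg.Agent.R2.Spec.X6
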