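import Cfsg.Agent.R2.Spec.X6.ExcFin

/-!
# Numerical contradictions: E8 (helper2, S3435, box X6)
-/

set_option autoImplicit false
set_option maxRecDepth 100000

namespace Cfsg.Agent.R2.Spec.X6

open Cfsg.Agent.H77.E4Num Cfsg.Agent.H77.E4Fin Cfsg.Agent.H77.E4XD

theorem E8_L17 {f u : ℕ} (hf : 2 ≤ f) (hu : 3 ≤ u) (ho : Odd u)
    (h : NumL (2 ^ f) 17 [17, 16] (nE8 u) 1 u [15, 20, 24, 30]) : False := by
  by_cases h0 : 2 ≤ f
  · exact anaL (e := 17) (P := 17) (Q := 2 ^ 2) xE8 h hu ho (by decide) (by norm_num) (by norm_num) (by norm_num)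
      (hmax_of (by norm_num) (by decide +kernel)) (by norm_num) (Nat.pow_le_pow_right (by norm_num) h0)
      (by decide +kernel) (by decide +kernel)
  · omega

theorem E8_U17 {f u : ℕ} (hf : 1 ≤ f) (hu : 3 ≤ u) (ho : Odd u)
    (h : NumL (2 ^ f) 17 [34, 16] (nE8 u) 1 u [15, 20, 24, 30]) : False := by
  by_cases h0 : 2 ≤ f
  · exact anaL (e := 34) (P := 17) (Q := 2 ^ 2) xE8 h hu ho (by decide) (by norm_num) (by norm_num) (by norm_num)
      (hmax_of (by norm_num) (by decide +kernel)) (by norm_num) (Nat.pow_le_pow_right (by norm_num) h0)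
      (by decide +kernel) (by decide +kernel)
  · have h1 : f < 2 := not_le.1 h0
    interval_cases f
    · exact finL xE8 h hu ho [(34, 43691), (16, 257)] 0 (by decide +kernel) (by decide +kernel) (by decide +kernel)

theorem E8_L18 {f u : ℕ} (hf : 2 ≤ f) (hu : 3 ≤ u) (ho : Odd u)
    (h : NumL (2 ^ f) 18 [18, 17] (nE8 u) 1 u [15, 20, 24, 30]) : False := by
  by_cases h0 : 2 ≤ f
  · exact anaL (e := 17) (P := 17) (Q := 2 ^ 2) xE8 h hu ho (by decide) (by norm_num) (by norm_num) (by norm_num)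
      (hmax_of (by norm_num) (by decide +kernel)) (by norm_num) (Nat.pow_le_pow_right (by norm_num) h0)
      (by decide +kernel) (by decide +kernel)
  · omega

theorem E8_U18 {f u : ℕ} (hf : 1 ≤ f) (hu : 3 ≤ u) (ho : Odd u)
    (h : NumL (2 ^ f) 18 [9, 34] (nE8 u) 1 u [15, 20, 24, 30]) : False := by
  by_cases h0 : 2 ≤ f
  · exact anaL (e := 34) (P := 17) (Q := 2 ^ 2) xE8 h hu ho (by decide) (by norm_num) (by norm_num) (by norm_num)
      (hmax_of (by norm_num) (by decide +kernel)) (by norm_num) (Nat.pow_le_pow_right (by norm_num) h0)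
      (by decide +kernel) (by decide +kernel)
  · have h1 : f < 2 := not_le.1 h0
    interval_cases f
    · exact finL xE8 h hu ho [(9, 73), (34, 43691)] 0 (by decide +kernel) (by decide +kernel) (by decide +kernel)

theorem E8_L19 {f u : ℕ} (hf : 2 ≤ f) (hu : 3 ≤ u) (ho : Odd u)
    (h : NumL (2 ^ f) 19 [19, 18] (nE8 u) 1 u [15, 20, 24, 30]) : False := by
  by_cases h0 : 2 ≤ f
  · exact anaL (e := 19) (P := 19) (Q := 2 ^ 2) xE8 h hu ho (by decide) (by norm_num) (by norm_num) (by norm_num)
      (hmax_of (by norm_num) (by decide +kernel)) (by norm_num) (Nat.pow_le_pow_right (by norm_num) h0)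
      (by decide +kernel) (by decide +kernel)
  · omega

theorem E8_U19 {f u : ℕ} (hf : 1 ≤ f) (hu : 3 ≤ u) (ho : Odd u)
    (h : NumL (2 ^ f) 19 [38, 9] (nE8 u) 1 u [15, 20, 24, 30]) : False := by
  by_cases h0 : 2 ≤ f
  · exact anaL (e := 38) (P := 19) (Q := 2 ^ 2) xE8 h hu ho (by decide) (by norm_num) (by norm_num) (by norm_num)
      (hmax_of (by norm_num) (by decide +kernel)) (by norm_num) (Nat.pow_le_pow_right (by norm_num) h0)
      (by decide +kernel) (by decide +kernel)
  · have h1 : f < 2 := not_le.1 h0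
    interval_cases f
    · exact finL xE8 h hu ho [(38, 174763), (9, 73)] 0 (by decide +kernel) (by decide +kernel) (by decide +kernel)

theorem E8_L20 {f u : ℕ} (hf : 2 ≤ f) (hu : 3 ≤ u) (ho : Odd u)
    (h : NumL (2 ^ f) 20 [20, 19] (nE8 u) 1 u [15, 20, 24, 30]) : False := by
  by_cases h0 : 2 ≤ f
  · exact anaL (e := 19) (P := 19) (Q := 2 ^ 2) xE8 h hu ho (by decide) (by norm_num) (by norm_num) (by norm_num)
      (hmax_of (by norm_num) (by decide +kernel)) (by norm_num) (Nat.pow_le_pow_right (by norm_num) h0)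
      (by decide +kernel) (by decide +kernel)
  · omega

theorem E8_U20 {f u : ℕ} (hf : 1 ≤ f) (hu : 3 ≤ u) (ho : Odd u)
    (h : NumL (2 ^ f) 20 [20, 38] (nE8 u) 1 u [15, 20, 24, 30]) : False := by
  by_cases h0 : 2 ≤ f
  · exact anaL (e := 38) (P := 19) (Q := 2 ^ 2) xE8 h hu ho (by decide) (by norm_num) (by norm_num) (by norm_num)
      (hmax_of (by norm_num) (by decide +kernel)) (by norm_num) (Nat.pow_le_pow_right (by norm_num) h0)
      (by decide +kernel) (by decide +kernel)
  · have h1 : f < 2 := not_le.1 h0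
    interval_cases f
    · exact finL xE8 h hu ho [(20, 41), (38, 174763)] 0 (by decide +kernel) (by decide +kernel) (by decide +kernel)

theorem E8_L21 {f u : ℕ} (hf : 2 ≤ f) (hu : 3 ≤ u) (ho : Odd u)
    (h : NumL (2 ^ f) 21 [21, 20] (nE8 u) 1 u [15, 20, 24, 30]) : False := by
  by_cases h0 : 2 ≤ f
  · exact anaL (e := 21) (P := 7) (Q := 2 ^ 2) xE8 h hu ho (by decide) (by norm_num) (by norm_num) (by norm_num)
      (hmax_of (by norm_num) (by decide +kernel)) (by norm_num) (Nat.pow_le_pow_right (by norm_num) h0)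
      (by decide +kernel) (by decide +kernel)
  · omega

theorem E8_U21 {f u : ℕ} (hf : 1 ≤ f) (hu : 3 ≤ u) (ho : Odd u)
    (h : NumL (2 ^ f) 21 [42, 20] (nE8 u) 1 u [15, 20, 24, 30]) : False := by
  by_cases h0 : 2 ≤ f
  · exact anaL (e := 42) (P := 7) (Q := 2 ^ 2) xE8 h hu ho (by decide) (by norm_num) (by norm_num) (by norm_num)
      (hmax_of (by norm_num) (by decide +kernel)) (by norm_num) (Nat.pow_le_pow_right (by norm_num) h0)
      (by decide +kernel) (by decide +kernel)
  · have h1 : f < 2 := not_le.1 h0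
    interval_cases f
    · exact finL xE8 h hu ho [(42, 5419), (20, 41)] 0 (by decide +kernel) (by decide +kernel) (by decide +kernel)

theorem E8_L22 {f u : ℕ} (hf : 2 ≤ f) (hu : 3 ≤ u) (ho : Odd u)
    (h : NumL (2 ^ f) 22 [22, 21] (nE8 u) 1 u [15, 20, 24, 30]) : False := by
  by_cases h0 : 3 ≤ f
  · exact anaL (e := 22) (P := 11) (Q := 2 ^ 3) xE8 h hu ho (by decide) (by norm_num) (by norm_num) (by norm_num)
      (hmax_of (by norm_num) (by decide +kernel)) (by norm_num) (Nat.pow_le_pow_right (by norm_num) h0)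
      (by decide +kernel) (by decide +kernel)
  · have h1 : f < 3 := not_le.1 h0
    interval_cases f
    · exact finL xE8 h hu ho [(22, 838861), (21, 1826203)] 1 (by decide +kernel) (by decide +kernel) (by decide +kernel)

theorem E8_U22 {f u : ℕ} (hf : 1 ≤ f) (hu : 3 ≤ u) (ho : Odd u)
    (h : NumL (2 ^ f) 22 [11, 42] (nE8 u) 1 u [15, 20, 24, 30]) : False := by
  by_cases h0 : 3 ≤ f
  · exact anaL (e := 11) (P := 11) (Q := 2 ^ 3) xE8 h hu ho (by decide) (by norm_num) (by norm_num) (by norm_num)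
      (hmax_of (by norm_num) (by decide +kernel)) (by norm_num) (Nat.pow_le_pow_right (by norm_num) h0)
      (by decide +kernel) (by decide +kernel)
  · have h1 : f < 3 := not_le.1 h0
    interval_cases f
    · exact finL xE8 h hu ho [(11, 2047), (42, 5419)] 0 (by decide +kernel) (by decide +kernel) (by decide +kernel)
    · exact finL xE8 h hu ho [(11, 1398101), (42, 20647621)] 1 (by decide +kernel) (by decide +kernel) (by decide +kernel)

theorem E8_L23 {f u : ℕ} (hf : 2 ≤ f) (hu : 3 ≤ u) (ho : Odd u)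
    (h : NumL (2 ^ f) 23 [23, 22] (nE8 u) 1 u [15, 20, 24, 30]) : False := by
  by_cases h0 : 2 ≤ f
  · exact anaL (e := 23) (P := 23) (Q := 2 ^ 2) xE8 h hu ho (by decide) (by norm_num) (by norm_num) (by norm_num)
      (hmax_of (by norm_num) (by decide +kernel)) (by norm_num) (Nat.pow_le_pow_right (by norm_num) h0)
      (by decide +kernel) (by decide +kernel)
  · omega

theorem E8_U23 {f u : ℕ} (hf : 1 ≤ f) (hu : 3 ≤ u) (ho : Odd u)
    (h : NumL (2 ^ f) 23 [46, 11] (nE8 u) 1 u [15, 20, 24, 30]) : False := by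
  by_cases h0 : 2 ≤ f
  · exact anaL (e := 46) (P := 23) (Q := 2 ^ 2) xE8 h hu ho (by decide) (by norm_num) (by norm_num) (by norm_num)
      (hmax_of (by norm_num) (by decide +kernel)) (by norm_num) (Nat.pow_le_pow_right (by norm_num) h0)
      (by decide +kernel) (by decide +kernel)
  · have h1 : f < 2 := not_le.1 h0
    interval_cases f
    · exact finL xE8 h hu ho [(46, 2796203), (11, 2047)] 0 (by decide +kernel) (by decide +kernel) (by decide +kernel)

theorem E8_L24 {f u : ℕ} (hf : 2 ≤ f) (hu : 3 ≤ u) (ho : Odd u)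
    (h : NumL (2 ^ f) 24 [24, 23] (nE8 u) 1 u [15, 20, 24, 30]) : False := by
  by_cases h0 : 2 ≤ f
  · exact anaL (e := 23) (P := 23) (Q := 2 ^ 2) xE8 h hu ho (by decide) (by norm_num) (by norm_num) (by norm_num)
      (hmax_of (by norm_num) (by decide +kernel)) (by norm_num) (Nat.pow_le_pow_right (by norm_num) h0)
      (by decide +kernel) (by decide +kernel)
  · omega

theorem E8_U24 {f u : ℕ} (hf : 1 ≤ f) (hu : 3 ≤ u) (ho : Odd u)
    (h : NumL (2 ^ f) 24 [24, 46] (nE8 u) 1 u [15, 20, 24, 30]) : False := by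
  by_cases h0 : 2 ≤ f
  · exact anaL (e := 46) (P := 23) (Q := 2 ^ 2) xE8 h hu ho (by decide) (by norm_num) (by norm_num) (by norm_num)
      (hmax_of (by norm_num) (by decide +kernel)) (by norm_num) (Nat.pow_le_pow_right (by norm_num) h0)
      (by decide +kernel) (by decide +kernel)
  · have h1 : f < 2 := not_le.1 h0
    interval_cases f
    · exact finL xE8 h hu ho [(24, 241), (46, 2796203)] 1 (by decide +kernel) (by decide +kernel) (by decide +kernel)

theorem E8_L25 {f u : ℕ} (hf : 2 ≤ f) (hu : 3 ≤ u) (ho : Odd u)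
    (h : NumL (2 ^ f) 25 [25, 24] (nE8 u) 1 u [15, 20, 24, 30]) : False := by
  by_cases h0 : 2 ≤ f
  · exact anaL (e := 25) (P := 5) (Q := 2 ^ 2) xE8 h hu ho (by decide) (by norm_num) (by norm_num) (by norm_num)
      (hmax_of (by norm_num) (by decide +kernel)) (by norm_num) (Nat.pow_le_pow_right (by norm_num) h0)
      (by decide +kernel) (by decide +kernel)
  · omega

theorem E8_U25 {f u : ℕ} (hf : 1 ≤ f) (hu : 3 ≤ u) (ho : Odd u)
    (h : NumL (2 ^ f) 25 [50, 24] (nE8 u) 1 u [15, 20, 24, 30]) : False := by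
  by_cases h0 : 2 ≤ f
  · exact anaL (e := 50) (P := 5) (Q := 2 ^ 2) xE8 h hu ho (by decide) (by norm_num) (by norm_num) (by norm_num)
      (hmax_of (by norm_num) (by decide +kernel)) (by norm_num) (Nat.pow_le_pow_right (by norm_num) h0)
      (by decide +kernel) (by decide +kernel)
  · have h1 : f < 2 := not_le.1 h0
    interval_cases f
    · exact finL xE8 h hu ho [(50, 1016801), (24, 241)] 1 (by decide +kernel) (by decide +kernel) (by decide +kernel)

theorem E8_L26 {f u : ℕ} (hf : 2 ≤ f) (hu : 3 ≤ u) (ho : Odd u)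
    (h : NumL (2 ^ f) 26 [26, 25] (nE8 u) 1 u [15, 20, 24, 30]) : False := by
  by_cases h0 : 2 ≤ f
  · exact anaL (e := 25) (P := 5) (Q := 2 ^ 2) xE8 h hu ho (by decide) (by norm_num) (by norm_num) (by norm_num)
      (hmax_of (by norm_num) (by decide +kernel)) (by norm_num) (Nat.pow_le_pow_right (by norm_num) h0)
      (by decide +kernel) (by decide +kernel)
  · omega

theorem E8_U26 {f u : ℕ} (hf : 1 ≤ f) (hu : 3 ≤ u) (ho : Odd u)
    (h : NumL (2 ^ f) 26 [13, 50] (nE8 u) 1 u [15, 20, 24, 30]) : False := by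
  by_cases h0 : 2 ≤ f
  · exact anaL (e := 50) (P := 5) (Q := 2 ^ 2) xE8 h hu ho (by decide) (by norm_num) (by norm_num) (by norm_num)
      (hmax_of (by norm_num) (by decide +kernel)) (by norm_num) (Nat.pow_le_pow_right (by norm_num) h0)
      (by decide +kernel) (by decide +kernel)
  · have h1 : f < 2 := not_le.1 h0
    interval_cases f
    · exact finL xE8 h hu ho [(13, 8191), (50, 1016801)] 1 (by decide +kernel) (by decide +kernel) (by decide +kernel)

theorem E8_L27 {f u : ℕ} (hf : 2 ≤ f) (hu : 3 ≤ u) (ho : Odd u)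
    (h : NumL (2 ^ f) 27 [27, 26] (nE8 u) 1 u [15, 20, 24, 30]) : False := by
  by_cases h0 : 3 ≤ f
  · exact anaL (e := 27) (P := 3) (Q := 2 ^ 3) xE8 h hu ho (by decide) (by norm_num) (by norm_num) (by norm_num)
      (hmax_of (by norm_num) (by decide +kernel)) (by norm_num) (Nat.pow_le_pow_right (by norm_num) h0)
      (by decide +kernel) (by decide +kernel)
  · have h1 : f < 3 := not_le.1 h0
    interval_cases f
    · exact finL xE8 h hu ho [(27, 22906579627), (26, 13421773)] 4 (by decide +kernel) (by decide +kernel) (by decide +kernel)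

theorem E8_U27 {f u : ℕ} (hf : 1 ≤ f) (hu : 3 ≤ u) (ho : Odd u)
    (h : NumL (2 ^ f) 27 [54, 13] (nE8 u) 1 u [15, 20, 24, 30]) : False := by
  by_cases h0 : 3 ≤ f
  · exact anaL (e := 54) (P := 3) (Q := 2 ^ 3) xE8 h hu ho (by decide) (by norm_num) (by norm_num) (by norm_num)
      (hmax_of (by norm_num) (by decide +kernel)) (by norm_num) (Nat.pow_le_pow_right (by norm_num) h0)
      (by decide +kernel) (by decide +kernel)
  · have h1 : f < 3 := not_le.1 h0
    interval_cases f
    · exact finL xE8 h hu ho [(54, 87211), (13, 8191)] 1 (by decide +kernel) (by decide +kernel) (by decide +kernel)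
    · exact finL xE8 h hu ho [(54, 68719214593), (13, 22369621)] 4 (by decide +kernel) (by decide +kernel) (by decide +kernel)

theorem E8_L28 {f u : ℕ} (hf : 2 ≤ f) (hu : 3 ≤ u) (ho : Odd u)
    (h : NumL (2 ^ f) 28 [28, 27] (nE8 u) 1 u [15, 20, 24, 30]) : False := by
  by_cases h0 : 3 ≤ f
  · exact anaL (e := 27) (P := 3) (Q := 2 ^ 3) xE8 h hu ho (by decide) (by norm_num) (by norm_num) (by norm_num)
      (hmax_of (by norm_num) (by decide +kernel)) (by norm_num) (Nat.pow_le_pow_right (by norm_num) h0)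
      (by decide +kernel) (by decide +kernel)
  · have h1 : f < 3 := not_le.1 h0
    interval_cases f
    · exact finL xE8 h hu ho [(28, 15790321), (27, 22906579627)] 5 (by decide +kernel) (by decide +kernel) (by decide +kernel)

theorem E8_U28 {f u : ℕ} (hf : 1 ≤ f) (hu : 3 ≤ u) (ho : Odd u)
    (h : NumL (2 ^ f) 28 [28, 54] (nE8 u) 1 u [15, 20, 24, 30]) : False := by
  by_cases h0 : 3 ≤ f
  · exact anaL (e := 54) (P := 3) (Q := 2 ^ 3) xE8 h hu ho (by decide) (by norm_num) (by norm_num) (by norm_num)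
      (hmax_of (by norm_num) (by decide +kernel)) (by norm_num) (Nat.pow_le_pow_right (by norm_num) h0)
      (by decide +kernel) (by decide +kernel)
  · have h1 : f < 3 := not_le.1 h0
    interval_cases f
    · exact finL xE8 h hu ho [(28, 3277), (54, 87211)] 1 (by decide +kernel) (by decide +kernel) (by decide +kernel)
    · exact finL xE8 h hu ho [(28, 15790321), (54, 68719214593)] 5 (by decide +kernel) (by decide +kernel) (by decide +kernel)

end Cfsg.Agent.R2.Spec.X6
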