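import Cfsg.Agent.R2.Spec.X6.Good
import Cfsg.Agent.R2.Spec.X6.Frame
import Cfsg.Agent.R2.Spec.X6.TabG
import Cfsg.Agent.R2.Spec.X6.TabF
import Cfsg.Agent.R2.Spec.X6.TabE
import Cfsg.Agent.R2.Spec.X6.TabS
import Cfsg.Agent.R2.Spec.X6.TabV
import Cfsg.Agent.H77.E4Odd

/-!
# `PSL_n(q)`, `PSU_n(q)`, `q = 2 ^ k`, `n ≥ 6`: exceptional groups of odd characteristic (helper2, S3435, box X6)

* `numL_of` : the numerical hypotheses;
* `rank_le` : `(n + 1) / 2 ≤ c + 2`;
* `no_exc` : the section is not exceptional of odd characteristic, except `²G₂`.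
-/

set_option autoImplicit false
set_option linter.unusedSectionVars false

namespace Cfsg.Agent.R2.Spec.X6

open Subgroup Cfsg Cfsg.Agent.H403 Cfsg.Agent.H403.NumTop Cfsg.Agent.H321.SpecEven
open Cfsg.Agent.H228.E3 Cfsg.Agent.H200.STwo.E3Glue
open Cfsg.Agent.H420.QR (Red)
open Cfsg.Agent.H426.LieFam (Fam)
open Cfsg.Agent.H77.E4Num Cfsg.Agent.H77.E4Poly Cfsg.Agent.H588.ZsigPart Cfsg.Agent.H77.E4Fin
open Cfsg.Agent.H77.E4Cls Cfsg.Agent.H77.E4XD

universe u v w

/-- primitive parts divide `AA` -/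
theorem prim_dvd_AA {e : Bool} {i q B : ℕ} (hi : 3 ≤ i) (hq : 2 ≤ q) (h : Prim q (nu e i) B) : B ∣ AA e i q := by
  cases e with
  | true => simpa [AA, nu] using h.1
  | false =>
    have hd : ∀ j : ℕ, q ^ j - 1 ∣ q ^ (j * 2) - 1 := fun j => by
      rw [pow_mul]
      simpa using Nat.sub_dvd_pow_sub_pow (q ^ j) 1 2
    by_cases h1 : i % 2 = 1
    · have h2 : nu false i = 2 * i := by simp [nu, h1]
      have h3 : AA false i q = q ^ i + 1 := by simp [AA, h1]
      rw [h2] at h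
      rw [h3]
      have h4 : B ∣ (q ^ i + 1) * (q ^ i - 1) := by
        have h5 : q ^ (2 * i) - 1 = (q ^ i + 1) * (q ^ i - 1) := by
          rw [mul_comm 2 i, pow_mul]
          simpa using Nat.sq_sub_sq (q ^ i) 1
        rw [← h5]
        exact h.1
      exact Nat.Coprime.dvd_of_dvd_mul_right (h.2 i (by omega) (by omega)) h4
    · have h0 : i % 2 = 0 := by omega
      have h3 : AA false i q = q ^ i - 1 := by simp [AA, h0]
      rw [h3]
      by_cases h4 : i % 4 = 2
      · have h2 : nu false i = i / 2 := by simp [nu, h0, h4]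
        rw [h2] at h
        have h5 := hd (i / 2)
        have h6 : i / 2 * 2 = i := by omega
        rw [h6] at h5
        exact h.1.trans h5
      · have h2 : nu false i = i := by simp [nu, h0, h4]
        rw [h2] at h
        exact h.1

variable {F : Type w} [Field F] [Fintype F] {e : Bool} {n k : ℕ} {L : Type v} [Group L] [Finite L]
  {G : Type u} [Group G] [Finite G] {K : Subgroup G} [K.Normal] {S : Subgroup (G ⧸ K)} [S.Normal]

/-- **The numerical hypotheses.** -/
theorem numL_of (H : Hyp e n k F L) (hω : H228.E3.SameOrd G L) (R : Red G K S) {N g u : ℕ} {I : List ℕ}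
    (hS : ExS ↥S N g u I) (hg : Odd g) : NumL (2 ^ k) n [nu e n, nu e (n - 1)] N g u I := by
  have hn := H.hn
  constructor
  · intro b hb
    obtain ⟨x, hx⟩ := hS.big
    obtain ⟨y, hy⟩ := mem_L hω ⟨x, rfl⟩
    have hg0 := hg.pos
    have hN : N ≤ orderOf y * g := by
      rw [hy]
      exact Nat.le_of_dvd (Nat.mul_pos (orderOf_pos x) hg0) hx
    have hbx : 2 ^ b ∣ orderOf y := by
      rw [hy]
      exact (Nat.Coprime.pow_left b (Nat.coprime_two_left.2 hg)).dvd_of_dvd_mul_right (hb.trans hx)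
    cases b with
    | zero =>
      refine ⟨Nat.zero_le _, ?_⟩
      calc N ≤ orderOf y * g := hN
        _ ≤ (3 * (2 ^ k) ^ n) * g := Nat.mul_le_mul_right _ (H.ord_le y)
        _ = _ := by show _ = 3 * g * 2 ^ 0 * (2 ^ k) ^ (n - 0); rw [Nat.sub_zero]; ring
    | succ b =>
      obtain ⟨h1, h2⟩ := ord_two H.lin H.hF H.qe (by omega) y (orderOf_pos y) hbx
      refine ⟨h1, ?_⟩
      calc N ≤ orderOf y * g := hN
        _ ≤ (3 * 2 ^ (b + 1) * (2 ^ k) ^ (n - (2 ^ b + 1))) * g := Nat.mul_le_mul_right _ h2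
        _ = _ := by show _ = 3 * g * 2 ^ (b + 1) * (2 ^ k) ^ (n - (2 ^ b + 1)); ring
  · intro e' he B hB hp
    obtain ⟨i, hi, rfl⟩ : ∃ i, (i = n ∨ i = n - 1) ∧ e' = nu e i := by
      simp only [List.mem_cons, List.not_mem_nil, or_false] at he
      rcases he with he | he
      · exact ⟨n, Or.inl rfl, he⟩
      · exact ⟨n - 1, Or.inr rfl, he⟩
    have hi3 : 3 ≤ i := by omega
    have hod : ∀ r : ℕ, r.Prime → r ∣ B → od e (2 ^ k) r = i := fun r hr hd =>
      order_of_nu hr hi3 (H77.E4Frame.prim_order (by have := H.q2; omega) (by have := nu_ge (e := e) hi3; omega) hp hr hd)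
    obtain ⟨x, hx⟩ := mem_top H hω R hi hod (prim_dvd_AA hi3 H.q2 hp)
    obtain ⟨m, hm, hd⟩ := hS.cls x (by rw [hx]; exact hB) (fun r hr hrd => by
      rw [hx] at hrd
      have h1 := hod r hr hrd
      refine ⟨H.ne_two (by omega), fun ha => ?_⟩
      obtain ⟨z, hz⟩ := H77.E4Frame.exists_of_adj ha
      obtain ⟨y, hy⟩ := mem_L hω ⟨z, hz⟩
      exact H.far hr (by rw [h1]; exact hi) ⟨y, by rw [hy, mul_comm]⟩)
    exact ⟨m, hm, by rwa [hx] at hd⟩

/-- **The rank.** -/
theorem rank_le (H : Hyp e n k F L) (hω : H228.E3.SameOrd G L) (R : Red G K S) {c : ℕ}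
    (hc : ∃ q, H168.ExcCoc.ExcCov ↥S q c) : n ≤ 2 * (c + 2) := by
  classical
  have hn := H.hn
  obtain ⟨q, hc⟩ := hc
  -- a prime for each class
  have hex : ∀ i : ℕ, ∃ r : ℕ, 4 ≤ i → r.Prime ∧ od e (2 ^ k) r = i := by
    intro i
    by_cases hi : 4 ≤ i
    · obtain ⟨r, hr, hr1⟩ := H.exists_od hi
      exact ⟨r, fun _ => ⟨hr, hr1⟩⟩
    · exact ⟨0, fun h => absurd h hi⟩
  choose ρ hρ using hex
  set A : Finset ℕ := (Finset.Icc (n / 2 + 1) n).image ρ with hA
  have hinj : Set.InjOn ρ (Finset.Icc (n / 2 + 1) n) := by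
    intro i hi j hj hij
    rw [Finset.mem_coe, Finset.mem_Icc] at hi hj
    have h1 := (hρ i (by omega)).2
    have h2 := (hρ j (by omega)).2
    rw [hij] at h1
    omega
  have hcard : A.card = n - n / 2 := by
    rw [hA, Finset.card_image_of_injOn hinj, Nat.card_Icc]
    omega
  have hAC : Coq5 L A := by
    refine H.coq ?_ ?_
    · intro r hr
      obtain ⟨i, hi, rfl⟩ := Finset.mem_image.1 hr
      rw [Finset.mem_Icc] at hi
      obtain ⟨h1, h2⟩ := hρ i (by omega)
      exact ⟨h1, by omega, by omega⟩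
    · intro r hr s hs hrs
      obtain ⟨i, hi, rfl⟩ := Finset.mem_image.1 hr
      obtain ⟨j, hj, rfl⟩ := Finset.mem_image.1 hs
      rw [Finset.mem_Icc] at hi hj
      rw [(hρ i (by omega)).2, (hρ j (by omega)).2] at hrs
      rw [hrs]
  have hAG : Coq5 G A := hAC.of_same hω
  obtain ⟨h1, h2⟩ := (redL_of_red R).filter hAG (by omega)
  have h3 : (A.filter fun r => r ∣ Nat.card ↥S).card ≤ c + 1 := by
    refine H168.ExcCoc.coc_le_big hc ⟨h1.1.prime, h1.1.dvd, h1.1.nadj⟩ fun r hr => ?_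
    have := h1.2 r hr
    omega
  omega

end Cfsg.Agent.R2.Spec.X6
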