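import Cfsg.Agent.R2.Spec.X6.Base

/-!
# `PSL_n(q)`, `PSU_n(q)`, `q = 2 ^ k`, `n ≥ 6`: the primes of the classes `n` and `n - 1` (helper2, S3435, box X6)

* `good` : they divide `|S|`, not `|K|`, not `|G / K : S|`;
* `mem_top` : `S` contains elements of all orders of the class;
* `mem_G` : the element orders of `S` are element orders of `L`.
-/

set_option autoImplicit false
set_option linter.unusedSectionVars false

namespace Cfsg.Agent.R2.Spec.X6

open Subgroup Cfsg.Agent.H403 Cfsg.Agent.H403.NumTop Cfsg.Agent.H321.SpecEven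
open Cfsg.Agent.H72.WGr (OCoc)
open Cfsg.Agent.H228.E3 (Coq5 SameOrd LDat)
open Cfsg.Agent.H420.QR (Red)
open Cfsg.Agent.H414.Vasiliev Cfsg.Agent.H414.Comp

universe u v w

variable {F : Type w} [Field F] [Fintype F] {e : Bool} {n k : ℕ} {L : Type v} [Group L] [Finite L]
  {G : Type u} [Group G] [Finite G] {K : Subgroup G} [K.Normal] {S : Subgroup (G ⧸ K)} [S.Normal]

theorem isComp_of_red (R : Red G K S) : IsComp S := by
  refine ⟨R.simple, ?_, fun g => Or.inl fun s hs => (inferInstance : S.Normal).conj_mem s hs g⟩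
  by_contra hcon
  push Not at hcon
  exact R.nonab ⟨⟨hcon⟩⟩

/-- the primes of the classes `n`, `n - 1` -/
theorem good (H : Hyp e n k F L) (hω : SameOrd G L) (R : Red G K S) {p : ℕ} (hp : p.Prime)
    (hi : od e (2 ^ k) p = n ∨ od e (2 ^ k) p = n - 1) :
    p ∣ Nat.card ↥S ∧ ¬ p ∣ Nat.card ↥K ∧ ¬ p ∣ S.index := by
  classical
  have hn := H.hn
  -- a prime of the other class
  obtain ⟨r, hr, hri, hpr⟩ : ∃ r : ℕ, r.Prime ∧ (od e (2 ^ k) r = n ∨ od e (2 ^ k) r = n - 1) ∧
      od e (2 ^ k) p ≠ od e (2 ^ k) r := by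
    rcases hi with hi | hi
    · obtain ⟨r, hr, hr1⟩ := H.exists_od (i := n - 1) (by omega)
      exact ⟨r, hr, Or.inr hr1, by omega⟩
    · obtain ⟨r, hr, hr1⟩ := H.exists_od (i := n) (by omega)
      exact ⟨r, hr, Or.inl hr1, by omega⟩
  have hne : p ≠ r := fun h => hpr (by rw [h])
  have hc : Coq5 L {p, r} := by
    refine H.coq ?_ ?_
    · intro x hx
      simp only [Finset.mem_insert, Finset.mem_singleton] at hx
      rcases hx with rfl | rfl
      · exact ⟨hp, by omega, by omega⟩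
      · exact ⟨hr, by omega, by omega⟩
    · intro x hx y hy hxy
      simp only [Finset.mem_insert, Finset.mem_singleton] at hx hy
      rcases hx with rfl | rfl <;> rcases hy with rfl | rfl <;> first | rfl | exact absurd hxy hpr | exact absurd hxy.symm hpr
  have hcG := hc.of_same hω
  have hp2 : p ≠ 2 := H.ne_two (by omega)
  have hr2 : r ≠ 2 := H.ne_two (by omega)
  have a1 : ¬ ∃ g : G, orderOf g = 2 * p := fun h => H.far hp hi ((hω _).1 h)
  have a2 : ¬ ∃ g : G, orderOf g = 2 * r := fun h => H.far hr hri ((hω _).1 h)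
  have a3 : ¬ ∃ g : G, orderOf g = p * r := hcG.1.nadj p (by simp) r (by simp) hne
  have b1 : ¬ ∃ g : G, orderOf g = p * 2 := by rwa [mul_comm]
  have b2 : ¬ ∃ g : G, orderOf g = r * 2 := by rwa [mul_comm]
  have b3 : ¬ ∃ g : G, orderOf g = r * p := by rwa [mul_comm]
  have h2G : 2 ∣ Nat.card G := hω.dvd Nat.prime_two H.two_dvd
  have hρ : Coc G {2, p, r} := by
    constructor
    · intro x hx
      simp only [Finset.mem_insert, Finset.mem_singleton] at hx
      rcases hx with rfl | rfl | rfl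
      · exact ⟨Nat.prime_two, h2G⟩
      · exact ⟨hp, hcG.1.dvd x (by simp)⟩
      · exact ⟨hr, hcG.1.dvd x (by simp)⟩
    · intro x hx y hy hxy
      simp only [Finset.mem_insert, Finset.mem_singleton] at hx hy
      rcases hx with rfl | rfl | rfl <;> rcases hy with rfl | rfl | rfl <;>
        first | exact absurd rfl hxy | assumption
  obtain ⟨h1, h2⟩ := not_dvd K R.solv S (isComp_of_red R) R.cent hp2 hr2 hne hρ
  refine ⟨?_, h1, h2⟩
  have h4 := hcG.1.dvd p (by simp)
  rw [H420.QR.card_eq_mul (K := K) (S := S)] at h4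
  rcases hp.dvd_mul.1 h4 with h6 | h6
  · exact h6
  · rcases hp.dvd_mul.1 h6 with h7 | h7
    · exact absurd h7 h1
    · exact absurd h7 h2

/-- the element orders of `S` -/
theorem mem_L (hω : SameOrd G L) {m : ℕ} (h : ∃ x : ↥S, orderOf x = m) : ∃ y : L, orderOf y = m := by
  obtain ⟨x, hx⟩ := h
  obtain ⟨g, hg⟩ := exists_lift K (x : G ⧸ K)
  exact (hω _).1 ⟨g, by rw [hg, Subgroup.orderOf_coe, hx]⟩

/-- elements of `L` of order prime to `|K| |G / K : S|` -/
theorem mem_S (hω : SameOrd G L) {m : ℕ} (h : ∃ y : L, orderOf y = m) (h1 : Nat.Coprime m (Nat.card ↥K))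
    (h2 : Nat.Coprime m S.index) : ∃ x : ↥S, orderOf x = m := by
  obtain ⟨g, hg⟩ := (hω _).2 h
  obtain ⟨s, hs⟩ := exists_socle_elt K S (x := g) (by rwa [hg]) (by rwa [hg])
  exact ⟨s, by rw [hs, hg]⟩

/-- `S` contains elements of all orders of the classes `n`, `n - 1` -/
theorem mem_top (H : Hyp e n k F L) (hω : SameOrd G L) (R : Red G K S) {i c : ℕ} (hi : i = n ∨ i = n - 1)
    (h : ∀ r : ℕ, r.Prime → r ∣ c → od e (2 ^ k) r = i) (hc : c ∣ AA e i (2 ^ k)) : ∃ x : ↥S, orderOf x = c := by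
  have hn := H.hn
  have h1 : ∀ p : ℕ, p.Prime → p ∣ c → ¬ p ∣ Nat.card ↥K ∧ ¬ p ∣ S.index := fun p hp hd =>
    (good H hω R hp (by rcases hi with hi | hi <;> rw [← hi] <;> simp [h p hp hd])).2
  exact mem_S hω (H.elt (by omega) (by omega) h hc)
    (Nat.coprime_of_dvd fun p hp h4 h5 => (h1 p hp h4).1 h5)
    (Nat.coprime_of_dvd fun p hp h4 h5 => (h1 p hp h4).2 h5)

/-- the primes of `S` are primes of `L` -/
theorem dvd_L (hω : SameOrd G L) {r : ℕ} (hr : r.Prime) (h : r ∣ Nat.card ↥S) : r ∣ Nat.card L := by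
  have := Fact.mk hr
  obtain ⟨x, hx⟩ := exists_prime_orderOf_dvd_card' r h
  obtain ⟨y, hy⟩ := mem_L hω ⟨x, hx⟩
  rw [← hy]
  exact orderOf_dvd_natCard y

/-- a prime not dividing `|S|` -/
theorem dvd_rest {r : ℕ} (hr : r.Prime) (hG : r ∣ Nat.card G) (hS : ¬ r ∣ Nat.card ↥S) :
    r ∣ Nat.card ↥K ∨ r ∣ S.index := by
  rw [H420.QR.card_eq_mul (K := K) (S := S)] at hG
  exact (hr.dvd_mul.1 ((hr.dvd_mul.1 hG).resolve_left hS))

end Cfsg.Agent.R2.Spec.X6
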