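import Cfsg.Agent.R2.Spec.X6.Base
import Cfsg.Agent.H228.E3Final

/-!
# The elimination of the classical groups of odd characteristic, `n ≥ 7` (helper2, S3435, box X6)
-/

set_option autoImplicit false
set_option linter.unusedSectionVars false

namespace Cfsg.Agent.R2.Spec.X6

open Subgroup Cfsg.Agent.H403 Cfsg.Agent.H403.NumTop Cfsg.Agent.H321.SpecEven
open Cfsg.Agent.H72.WGr (OCoc)
open Cfsg.Agent.H228.E3 (Coq5 SameOrd LDat)

universe u v

theorem le_two_nu (e : Bool) (i : ℕ) : i ≤ 2 * nu e i := by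
  unfold nu
  cases e with
  | true => simp; omega
  | false =>
    simp only [Bool.false_eq_true, if_false, beq_iff_eq]
    split_ifs <;> omega

/-- large primes -/
theorem Hyp.exists_big {F : Type*} [Field F] [Fintype F] {e : Bool} {n k : ℕ} {L : Type*} [Group L] [Finite L]
    (H : Hyp e n k F L) {i : ℕ} (hi : 4 ≤ i) :
    ∃ r : ℕ, r.Prime ∧ od e (2 ^ k) r = i ∧ k * nu e i + 1 ≤ r := by
  by_cases h6 : k * nu e i = 6
  · obtain ⟨r, hr, hro⟩ := H.exists_od hi
    refine ⟨r, hr, hro, ?_⟩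
    have h1 := od_lt hr (e := e) (q := 2 ^ k) (by omega)
    have hk := H.hk
    have h2 : 6 ≤ i := by
      by_contra hlt
      have h3 : i = 4 ∨ i = 5 := by omega
      rcases h3 with rfl | rfl <;> cases e <;> simp [nu] at h6 <;> omega
    omega
  · obtain ⟨r, h1, -, h2, h3⟩ := exists_prime_two (e := e) (i := i) (by omega) H.hk h6
    exact ⟨r, h1, h2, h3⟩

theorem nine_four {m : ℕ} (hm : 5 ≤ m) : 2 * 4 ^ (m + 2) ≤ 9 ^ m := by
  induction m, hm using Nat.le_induction with
  | base => norm_num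
  | succ m hm ih =>
    rw [show m + 1 + 2 = (m + 2) + 1 by ring, pow_succ, pow_succ 9]
    omega

theorem big_num {n k v : ℕ} (hn : 7 ≤ n) (hk : 1 ≤ k) (hv : n - 2 ≤ 2 * v) :
    4 * (3 * (2 ^ k) ^ n) + 4 ≤ 9 ^ (k * v + 1) := by
  obtain ⟨m, rfl⟩ : ∃ m, n = m + 2 := ⟨n - 2, by omega⟩
  rw [Nat.add_sub_cancel] at hv
  have h1 := nine_four (m := m) (by omega)
  have h2 : (2 * 4 ^ (m + 2)) ^ k ≤ (9 ^ m) ^ k := Nat.pow_le_pow_left h1 k
  set X := (2 ^ k) ^ (m + 2) with hX
  have hX2 : (4 ^ (m + 2)) ^ k = X ^ 2 := by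
    rw [hX, show (4 : ℕ) = 2 ^ 2 by norm_num]
    simp only [← pow_mul]
    congr 1
    ring
  have h3 : 2 * X ^ 2 ≤ (9 ^ m) ^ k := by
    refine le_trans ?_ h2
    rw [mul_pow, hX2]
    refine Nat.mul_le_mul_right _ ?_
    calc 2 = 2 ^ 1 := (pow_one 2).symm
      _ ≤ 2 ^ k := Nat.pow_le_pow_right (by norm_num) hk
  have h4 : (9 ^ m) ^ k ≤ 9 ^ (2 * (k * v)) := by
    rw [← pow_mul]
    refine Nat.pow_le_pow_right (by norm_num) ?_
    nlinarith
  have h5 : (9 ^ (k * v + 1)) ^ 2 = 81 * 9 ^ (2 * (k * v)) := by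
    rw [← pow_mul, show (k * v + 1) * 2 = 2 * (k * v) + 2 by ring, pow_add]
    ring
  have hX7 : 128 ≤ X := by
    calc 128 = (2 ^ 1) ^ 7 := by norm_num
      _ ≤ (2 ^ k) ^ 7 := Nat.pow_le_pow_left (Nat.pow_le_pow_right (by norm_num) hk) 7
      _ ≤ _ := Nat.pow_le_pow_right (Nat.one_le_two_pow) (by omega)
  have h6 : (4 * (3 * X) + 4) ^ 2 ≤ (9 ^ (k * v + 1)) ^ 2 := by
    rw [h5]
    nlinarith
  exact (Nat.pow_le_pow_iff_left (by norm_num)).1 h6

section

variable {F : Type*} [Field F] [Fintype F] {e : Bool} {n k : ℕ} {L : Type*} [Group L] [Finite L]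

/-- **The data of `L`.** -/
theorem Hyp.ldat (H : Hyp e n k F L) (hn : 7 ≤ n) : LDat L := by
  classical
  obtain ⟨a, ha, ha1, ha2⟩ := H.exists_big (i := n) (by omega)
  obtain ⟨b, hb, hb1, hb2⟩ := H.exists_big (i := n - 1) (by omega)
  obtain ⟨c, hc, hc1, hc2⟩ := H.exists_big (i := n - 2) (by omega)
  obtain ⟨d, hd, hd1⟩ := H.exists_od (i := n - 3) (by omega)
  have hab : a ≠ b := by rintro rfl; omega
  have hac : a ≠ c := by rintro rfl; omega
  have had : a ≠ d := by rintro rfl; omega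
  have hbc : b ≠ c := by rintro rfl; omega
  have hbd : b ≠ d := by rintro rfl; omega
  have hcd : c ≠ d := by rintro rfl; omega
  have hB : Coq5 L {a, b, c, d} := by
    refine H.coq ?_ ?_
    · intro r hr
      simp only [Finset.mem_insert, Finset.mem_singleton] at hr
      rcases hr with rfl | rfl | rfl | rfl
      · exact ⟨ha, by omega, by omega⟩
      · exact ⟨hb, by omega, by omega⟩
      · exact ⟨hc, by omega, by omega⟩
      · exact ⟨hd, by omega, by omega⟩
    · intro r hr s hs hrs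
      simp only [Finset.mem_insert, Finset.mem_singleton] at hr hs
      rcases hr with rfl | rfl | rfl | rfl <;> rcases hs with rfl | rfl | rfl | rfl <;>
        first | rfl | (exfalso; omega)
  have hBc : ({a, b, c, d} : Finset ℕ).card = 4 := by
    rw [Finset.card_insert_of_notMem, Finset.card_insert_of_notMem, Finset.card_insert_of_notMem, Finset.card_singleton]
    · simpa using hcd
    · simpa using ⟨hbc, hbd⟩
    · simpa using ⟨hab, hac, had⟩
  have hAB : ({a, b, c} : Finset ℕ) ⊆ {a, b, c, d} := by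
    intro x hx
    simp only [Finset.mem_insert, Finset.mem_singleton] at hx ⊢
    tauto
  refine ⟨{a, b, c}, Cfsg.Agent.H228.E3.Coq5.mono hB hAB, ?_, Or.inr ⟨?_, fun r hr => ⟨_, hB, hAB hr, hBc.ge⟩,
    3 * (2 ^ k) ^ n, H.ord_le, ?_⟩⟩
  · intro r hr
    simp only [Finset.mem_insert, Finset.mem_singleton] at hr
    rcases hr with rfl | rfl | rfl
    · exact H.four ha (by omega) (by omega)
    · exact H.four hb (by omega) (by omega)
    · exact H.four hc (by omega) (by omega)
  · rw [Finset.card_insert_of_notMem, Finset.card_insert_of_notMem, Finset.card_singleton]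
    · simpa using hbc
    · simpa using ⟨hab, hac⟩
  · intro r hr
    simp only [Finset.mem_insert, Finset.mem_singleton] at hr
    rcases hr with rfl | rfl | rfl
    · exact (big_num hn H.hk (by have := le_two_nu e n; omega)).trans (Nat.pow_le_pow_right (by norm_num) ha2)
    · exact (big_num hn H.hk (by have := le_two_nu e (n - 1); omega)).trans (Nat.pow_le_pow_right (by norm_num) hb2)
    · exact (big_num hn H.hk (by have := le_two_nu e (n - 2); omega)).trans (Nat.pow_le_pow_right (by norm_num) hc2)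

end

end Cfsg.Agent.R2.Spec.X6
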