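import Cfsg.Agent.R2.Spec.F1.MovCl
import Cfsg.Agent.H356.TwoSepOrth
import Cfsg.Agent.H72.AdjPSL
import Cfsg.Agent.H72.AdjPSUW
import Cfsg.Agent.H228.E3Final

/-!
# Classical groups of odd characteristic with two nonadjacent primes not adjacent to `2` (helper2, S3435, box X6)

* `mov_two` : `TwoSep S r s`, `S` classical of odd characteristic `p`, not `L₂` : `Mov S p r ∨ Mov S p s`, and
  `r`, `s` are different from `p`.
-/

set_option autoImplicit false
set_option linter.unusedSectionVars false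

namespace Cfsg.Agent.R2.Spec.X6

open Cfsg Cfsg.Agent.H426.LieFam Cfsg.Agent.R2.Spec Cfsg.Agent.R2.Spec.P1 Cfsg.Agent.R2.Spec.F1
open Cfsg.Agent.H356 (TwoSep)
open Cfsg.Agent.H425.KStep (Mov)
open Cfsg.Agent.H228.E3 (Cla dvd_div eight_dvd cop3)

universe u

section three

variable {F : Type*} [Field F] [Fintype F]

theorem two_mul_dvd {q a : ℕ} (hq : q % 2 = 1) (ha : a.Prime) (h5 : 5 ≤ a) (h : a ∣ q ^ 2 - 1) : 2 * a ∣ q ^ 2 - 1 := by
  refine Nat.Coprime.mul_dvd_of_dvd_of_dvd ?_ ((show 2 ∣ 8 by norm_num).trans (eight_dvd hq)) h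
  exact (Nat.coprime_primes Nat.prime_two ha).2 (by omega)

theorem cop2 {a : ℕ} (ha : a.Prime) (h5 : 5 ≤ a) : Nat.Coprime (2 * a) 3 :=
  Nat.Coprime.mul_left (by norm_num) (cop3 ha h5)

/-- `PSL₃(q)` -/
theorem twoSep_psl_three {p : ℕ} (hp : p.Prime) (hp2 : p ≠ 2) [CharP F p] {r s : ℕ} (h5r : 5 ≤ r) (h5s : 5 ≤ s)
    (h : TwoSep (Matrix.ProjectiveSpecialLinearGroup (Fin 3) F) r s) : False := by
  have hfp := Fact.mk hp
  have hfin : Finite (Matrix.ProjectiveSpecialLinearGroup (Fin 3) F) := Cfsg.Agent.H163.PG.finite_psl (F := F) 3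
  have hspec := S2476.result (F := F) p
  obtain ⟨f, -, hF⟩ := FiniteField.card F p
  set q := Fintype.card F with hq
  have hq1 : q % 2 = 1 := by
    rw [hF]
    exact Nat.odd_iff.1 ((hp.odd_of_ne_two hp2).pow)
  have hq3 : 3 ≤ q := by
    rw [hF]
    have : 3 ≤ p := by have := hp.two_le; omega
    exact this.trans (Nat.le_self_pow f.ne_zero p)
  set d := Nat.gcd 3 (q - 1) with hd
  have hd3 : d ∣ 3 := Nat.gcd_dvd_left _ _
  have hdq : d ∣ q - 1 := Nat.gcd_dvd_right _ _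
  have hq21 : q ^ 2 - 1 = (q - 1) * (q + 1) := by
    obtain ⟨k, hk⟩ : ∃ k, q = k + 1 := ⟨q - 1, by omega⟩
    rw [hk, Nat.add_sub_cancel, show (k + 1) ^ 2 = k * (k + 1 + 1) + 1 by ring, Nat.add_sub_cancel]
  have hd1 : d ∣ q ^ 2 + q + 1 := by
    obtain ⟨k, hk⟩ : ∃ k, q = k + 1 := ⟨q - 1, by omega⟩
    rw [hk, Nat.add_sub_cancel] at hdq
    rw [hk, show (k + 1) ^ 2 + (k + 1) + 1 = k * (k + 3) + 3 by ring]
    exact dvd_add (hdq.mul_right _) hd3
  have hd2 : d ∣ q ^ 2 - 1 := by rw [hq21]; exact hdq.mul_right _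
  have mem : ∀ m : ℕ, (∃ x : Matrix.ProjectiveSpecialLinearGroup (Fin 3) F, orderOf x = m) ↔
      (m ∣ (q ^ 2 + q + 1) / d ∨ m ∣ (q ^ 2 - 1) / d ∨ m ∣ q - 1 ∨ m ∣ p * (q - 1) / d ∨ (p = 2 ∧ m ∣ 4)) := fun m => by
    have := Set.ext_iff.1 hspec m
    exact this
  have key : ∀ {a : ℕ}, a.Prime → 5 ≤ a → a ∣ Nat.card (Matrix.ProjectiveSpecialLinearGroup (Fin 3) F) →
      (¬ ∃ x : Matrix.ProjectiveSpecialLinearGroup (Fin 3) F, orderOf x = 2 * a) → a ∣ q ^ 2 + q + 1 := by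
    intro a ha h5 hd' hfar
    have := Fact.mk ha
    obtain ⟨x, hx⟩ := exists_prime_orderOf_dvd_card' a hd'
    have hno : ¬ a ∣ q ^ 2 - 1 := fun hdv => hfar ((mem _).2 (Or.inr (Or.inl
      (dvd_div hd3 hd2 (two_mul_dvd hq1 ha h5 hdv) (cop2 ha h5)))))
    rcases (mem a).1 ⟨x, hx⟩ with h | h | h | h | h
    · exact h.trans (Nat.div_dvd_of_dvd hd1)
    · exact absurd (h.trans (Nat.div_dvd_of_dvd hd2)) hno
    · exact absurd (hq21 ▸ h.mul_right _) hno
    · have h1 := h.trans (Nat.div_dvd_of_dvd (hdq.mul_left p))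
      rcases ha.dvd_mul.1 h1 with h2 | h2
      · exfalso
        apply hfar
        refine (mem _).2 (Or.inr (Or.inr (Or.inr (Or.inl ?_))))
        rw [(Nat.prime_dvd_prime_iff_eq ha hp).1 h2, Nat.mul_div_assoc _ hdq, mul_comm]
        exact mul_dvd_mul_left p (dvd_div hd3 hdq (by omega) (by norm_num))
      · exact absurd (hq21 ▸ h2.mul_right _) hno
    · exact absurd h.1 hp2
  exact h.sep ((mem _).2 (Or.inl (dvd_div hd3 hd1 (Nat.Coprime.mul_dvd_of_dvd_of_dvd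
    ((Nat.coprime_primes h.pr h.ps).2 h.ne) (key h.pr h5r h.dr h.far_r) (key h.ps h5s h.ds h.far_s))
    (Nat.Coprime.mul_left (cop3 h.pr h5r) (cop3 h.ps h5s)))))

/-- `PSU₃(q)` -/
theorem twoSep_psu_three {p q : ℕ} (hp : p.Prime) (hp2 : p ≠ 2) (hq1 : q % 2 = 1) (hq3 : 3 ≤ q)
    (hF : Fintype.card F = q ^ 2) [CharP F p] {r s : ℕ} (h5r : 5 ≤ r) (h5s : 5 ≤ s)
    (h : TwoSep (Cfsg.PSU 3 F q) r s) : False := by
  have hfp := Fact.mk hp
  have hfin : Finite (Cfsg.PSU 3 F q) := inferInstance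
  have hspec := S2366.result (F := F) p hp2 q hF
  set d := Nat.gcd 3 (q + 1) with hd
  have hd3 : d ∣ 3 := Nat.gcd_dvd_left _ _
  have hdq : d ∣ q + 1 := Nat.gcd_dvd_right _ _
  have hq21 : q ^ 2 - 1 = (q + 1) * (q - 1) := by
    obtain ⟨k, hk⟩ : ∃ k, q = k + 1 := ⟨q - 1, by omega⟩
    rw [hk, Nat.add_sub_cancel, show (k + 1) ^ 2 = (k + 1 + 1) * k + 1 by ring, Nat.add_sub_cancel]
  have hd1 : d ∣ q ^ 2 - q + 1 := by
    obtain ⟨k, hk⟩ : ∃ k, q = k + 2 := ⟨q - 2, by omega⟩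
    rw [hk] at hdq
    have h1 : q ^ 2 - q + 1 = (k + 2 + 1) * k + 3 := by
      rw [hk, show (k + 2) ^ 2 = (k + 2) + ((k + 2 + 1) * k + 2) by ring, Nat.add_sub_cancel_left]
    rw [h1]
    exact dvd_add (hdq.mul_right _) hd3
  have hd2 : d ∣ q ^ 2 - 1 := by rw [hq21]; exact hdq.mul_right _
  have mem : ∀ m : ℕ, (∃ x : Cfsg.PSU 3 F q, orderOf x = m) ↔
      (((m ∣ q + 1 ∨ m ∣ p * (q + 1) / d) ∨ m ∣ (q ^ 2 - 1) / d) ∨ m ∣ (q ^ 2 - q + 1) / d) := fun m => by
    have := Set.ext_iff.1 hspec m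
    exact this
  have key : ∀ {a : ℕ}, a.Prime → 5 ≤ a → a ∣ Nat.card (Cfsg.PSU 3 F q) →
      (¬ ∃ x : Cfsg.PSU 3 F q, orderOf x = 2 * a) → a ∣ q ^ 2 - q + 1 := by
    intro a ha h5 hd' hfar
    have := Fact.mk ha
    obtain ⟨x, hx⟩ := exists_prime_orderOf_dvd_card' a hd'
    have hno : ¬ a ∣ q ^ 2 - 1 := fun hdv => hfar ((mem _).2 (Or.inl (Or.inr
      (dvd_div hd3 hd2 (two_mul_dvd hq1 ha h5 hdv) (cop2 ha h5)))))
    rcases (mem a).1 ⟨x, hx⟩ with ((h | h) | h) | h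
    · exact absurd (hq21 ▸ h.mul_right _) hno
    · have h1 := h.trans (Nat.div_dvd_of_dvd (hdq.mul_left p))
      rcases ha.dvd_mul.1 h1 with h2 | h2
      · exfalso
        apply hfar
        refine (mem _).2 (Or.inl (Or.inl (Or.inr ?_)))
        rw [(Nat.prime_dvd_prime_iff_eq ha hp).1 h2, Nat.mul_div_assoc _ hdq, mul_comm]
        exact mul_dvd_mul_left p (dvd_div hd3 hdq (by omega) (by norm_num))
      · exact absurd (hq21 ▸ h2.mul_right _) hno
    · exact absurd (h.trans (Nat.div_dvd_of_dvd hd2)) hno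
    · exact h.trans (Nat.div_dvd_of_dvd hd1)
  exact h.sep ((mem _).2 (Or.inr (dvd_div hd3 hd1 (Nat.Coprime.mul_dvd_of_dvd_of_dvd
    ((Nat.coprime_primes h.pr h.ps).2 h.ne) (key h.pr h5r h.dr h.far_r) (key h.ps h5s h.ds h.far_s))
    (Nat.Coprime.mul_left (cop3 h.pr h5r) (cop3 h.ps h5s)))))

end three

section four

variable {F : Type} [Field F] [Fintype F]

open Cfsg.Agent.H72.AdjPSL Cfsg.Agent.H72.AdjOrth in
/-- the primes not adjacent to two in `PSL_n(q)`, `n ≥ 4` -/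
theorem far_psl {n a : ℕ} (hn : 4 ≤ n) (hodd : Odd (Fintype.card F)) (ha : a.Prime) (ha2 : a ≠ 2)
    (hd : a ∣ Nat.card (Matrix.ProjectiveSpecialLinearGroup (Fin n) F))
    (hfar : ¬ ∃ x : Matrix.ProjectiveSpecialLinearGroup (Fin n) F, orderOf x = 2 * a) :
    ¬ a ∣ Fintype.card F ∧ ¬ a ∣ Fintype.card F - 1 ∧ (ee (Fintype.card F) a = n ∨ ee (Fintype.card F) a = n - 1) := by
  have h2 : wL (Fintype.card F) 2 = 2 := by
    rw [wL, if_pos]
    right
    obtain ⟨t, ht⟩ := hodd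
    omega
  have h3 : ¬ wL (Fintype.card F) 2 + wL (Fintype.card F) a ≤ n := fun h =>
    hfar (adj_of_wL Nat.prime_two ha ha2.symm h)
  rw [h2] at h3
  have h4 : ¬ (a ∣ Fintype.card F ∨ a ∣ Fintype.card F - 1) := by
    intro h4
    rw [wL, if_pos h4] at h3
    omega
  rw [wL, if_neg h4] at h3
  rw [not_or] at h4
  have h5 := ee_le ha h4.1 hd
  exact ⟨h4.1, h4.2, by omega⟩

open Cfsg.Agent.H72.AdjPSU in
/-- the primes not adjacent to two in `PSU_n(q)`, `n ≥ 4` -/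
theorem far_psu {n a q : ℕ} (hn : 4 ≤ n) (hF : Fintype.card F = q ^ 2) (hodd : Odd q) (ha : a.Prime) (ha2 : a ≠ 2)
    (hd : a ∣ Nat.card (Cfsg.PSU n F q)) (hfar : ¬ ∃ x : Cfsg.PSU n F q, orderOf x = 2 * a) :
    ¬ a ∣ q ∧ (nu q a = n ∨ nu q a = n - 1) := by
  have h2 : wU q 2 = 2 := by
    rw [wU, if_pos]
    right
    obtain ⟨t, ht⟩ := hodd
    omega
  have h3 : ¬ wU q 2 + wU q a ≤ n := fun h =>
    hfar (adj_of_wU hF (by omega) Nat.prime_two ha ha2.symm h)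
  rw [h2] at h3
  have h4 : ¬ (a ∣ q ∨ a ∣ q + 1) := by
    intro h4
    rw [wU, if_pos h4] at h3
    omega
  rw [wU, if_neg h4] at h3
  rw [not_or] at h4
  have h5 := nu_le hF (by omega) ha h4.1 hd
  exact ⟨h4.1, by omega⟩

end four

/-- **Two nonadjacent primes not adjacent to two in a classical group of odd characteristic.** -/
theorem mov_two {p f : ℕ} (hp : p.Prime) (hp2 : p ≠ 2) {S : Type u} [Group S] {t : Fam} (ht : Cla t)
    (hI : Fam.Is p f S t) (hL2 : t ≠ .psl 2) {r s : ℕ} (h : TwoSep S r s) (h5r : 5 ≤ r) (h5s : 5 ≤ s) :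
    r ≠ p ∧ s ≠ p ∧ (Mov S p r ∨ Mov S p s) := by
  have hpo : Odd p := hp.odd_of_ne_two hp2
  have hne : ∀ {E : Type} [Field E] [Fintype E] [CharP E p] {a : ℕ}, ¬ a ∣ Fintype.card E → a ≠ p := by
    rintro E _ _ _ a hn rfl
    obtain ⟨j, -, hj⟩ := FiniteField.card E a
    exact hn (by rw [hj]; exact dvd_pow_self a j.ne_zero)
  have hndvd : ∀ {a : ℕ}, a.Prime → a ≠ p → ¬ a ∣ p := fun ha hap hd => hap ((Nat.prime_dvd_prime_iff_eq ha hp).1 hd)
  cases t with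
  | psl n =>
    obtain ⟨hn, hn4, F, _, _, _, hF, ⟨e⟩⟩ := hI
    have h' := h.of_mulEquiv e
    have hodd : Odd (Fintype.card F) := by rw [hF]; exact hpo.pow
    have hn2 : n ≠ 2 := by rintro rfl; exact hL2 rfl
    by_cases hn3 : n = 3
    · subst hn3
      exact (twoSep_psl_three hp hp2 h5r h5s h').elim
    have hn4' : 4 ≤ n := by omega
    obtain ⟨a1, a2, a3⟩ := far_psl hn4' hodd h'.pr h'.r2 h'.dr h'.far_r
    obtain ⟨b1, b2, b3⟩ := far_psl hn4' hodd h'.ps h'.s2 h'.ds h'.far_s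
    refine ⟨hne a1, hne b1, ?_⟩
    have hmov : ∀ {a : ℕ}, a.Prime → ¬ a ∣ Fintype.card F - 1 → Cfsg.Agent.H72.AdjOrth.ee (Fintype.card F) a = n - 1 →
        Mov S p a := by
      intro a ha h1 h2
      obtain ⟨k, rfl⟩ : ∃ k, n = k + 1 := ⟨n - 1, by omega⟩
      have h3 : MovA (Matrix.ProjectiveSpecialLinearGroup (Fin (k + 1)) F) p a := by
        refine movA_psl hp ha (e := k) (by omega) le_rfl ?_ h1
        have h4 := Cfsg.Agent.H72.AdjOrth.dvd_pow_ee (q := Fintype.card F) (r := a) Fintype.card_pos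
        rwa [h2, Nat.add_sub_cancel] at h4
      exact ((MovA.congr e).2 h3).mov
    rcases a3 with a3 | a3
    · rcases b3 with b3 | b3
      · exact (h'.sep (Cfsg.Agent.H72.AdjPSL.adj_of_ee (by omega) h'.pr h'.ps h'.ne a1 (a3.trans b3.symm) a3.le)).elim
      · exact Or.inr (hmov h'.ps b2 b3)
    · exact Or.inl (hmov h'.pr a2 a3)
  | psp m =>
    obtain ⟨hm, hm3, F, _, _, _, hF, ⟨e⟩⟩ := hI
    have hodd : Odd (Fintype.card F) := by rw [hF]; exact hpo.pow
    exact (TwoSep.psp hm hodd (h.of_mulEquiv e)).elim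
  | psu n =>
    have hI' := hI
    obtain ⟨hn, hn4, F, _, _, _, hF, ⟨e⟩⟩ := hI
    have h' := h.of_mulEquiv e
    have hodd : Odd (p ^ f) := hpo.pow
    have hf : f ≠ 0 := by
      rintro rfl
      rw [pow_zero, one_pow] at hF
      have := Fintype.one_lt_card (α := F)
      omega
    have hq3 : 3 ≤ p ^ f := by
      have : 3 ≤ p := by have := hp.two_le; omega
      exact this.trans (Nat.le_self_pow hf p)
    by_cases hn3 : n = 3
    · subst hn3
      exact (twoSep_psu_three hp hp2 (Nat.odd_iff.1 hodd) hq3 hF h5r h5s h').elim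
    have hn4' : 4 ≤ n := by omega
    obtain ⟨a1, a3⟩ := far_psu hn4' hF hodd h'.pr h'.r2 h'.dr h'.far_r
    obtain ⟨b1, b3⟩ := far_psu hn4' hF hodd h'.ps h'.s2 h'.ds h'.far_s
    have hnep : ∀ {a : ℕ}, ¬ a ∣ p ^ f → a ≠ p := by
      rintro a ha rfl
      exact ha (dvd_pow_self _ hf)
    refine ⟨hnep a1, hnep b1, ?_⟩
    have hcls : ∀ a : ℕ, cls (.psu n) (p ^ f) a = Cfsg.Agent.H72.AdjPSU.nu (p ^ f) a := by
      intro a
      show orderOf ((sg (.psu n) (p ^ f) : ℤ) : ZMod a) = orderOf (-((p ^ f : ℕ) : ZMod a))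
      rw [sg]
      push_cast
      rfl
    have hmov : ∀ {a : ℕ}, a.Prime → 3 ≤ Cfsg.Agent.H72.AdjPSU.nu (p ^ f) a → Cfsg.Agent.H72.AdjPSU.nu (p ^ f) a ≤ n →
        Cfsg.Agent.H72.AdjPSU.nu (p ^ f) a % 2 = 0 → Mov S p a := by
      intro a ha h1 h2 h3
      exact (movA_fam_psu hp hI' ha (by rwa [hcls]) (by rwa [hcls]) (by rwa [hcls])).mov
    rcases a3 with a3 | a3
    · rcases b3 with b3 | b3
      · exact (h'.sep (Cfsg.Agent.H72.AdjPSU.adj_of_nu hF (by omega) h'.pr h'.ps h'.ne a1 (a3.trans b3.symm) a3.le)).elim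
      · rcases Nat.mod_two_eq_zero_or_one n with h2 | h2
        · exact Or.inl (hmov h'.pr (by omega) (by omega) (by omega))
        · exact Or.inr (hmov h'.ps (by omega) (by omega) (by omega))
    · rcases b3 with b3 | b3
      · rcases Nat.mod_two_eq_zero_or_one n with h2 | h2
        · exact Or.inr (hmov h'.ps (by omega) (by omega) (by omega))
        · exact Or.inl (hmov h'.pr (by omega) (by omega) (by omega))
      · exact (h'.sep (Cfsg.Agent.H72.AdjPSU.adj_of_nu hF (by omega) h'.pr h'.ps h'.ne a1 (a3.trans b3.symm)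
          (by omega))).elim
  | oodd m =>
    obtain ⟨hm, ho, F, _, _, _, hF, ⟨e⟩⟩ := hI
    have hodd : Odd (Fintype.card F) := by rw [hF]; exact hpo.pow
    exact (TwoSep.oodd hm hodd (h.of_mulEquiv e)).elim
  | oplus m =>
    have hI' := hI
    obtain ⟨hm, F, _, _, _, hF, ⟨e⟩⟩ := hI
    have h' := h.of_mulEquiv e
    have hodd : Odd (Nat.card F) := by rw [Nat.card_eq_fintype_card, hF]; exact hpo.pow
    obtain ⟨c1, -, c3⟩ := TwoSep.oplus hm hodd h'
    have hF' : Nat.card F = p ^ f := by rw [Nat.card_eq_fintype_card, hF]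
    rw [hF'] at c3
    have hcls : ∀ a : ℕ, cls (.oplus m) (p ^ f) a = Cfsg.Agent.H72.AdjOrth.ee (p ^ f) a := by
      intro a
      rw [cls_eq_co (by intro k; exact fun h => by cases h)]
      rfl
    have hnep : ∀ {a : ℕ}, a.Prime → 1 ≤ Cfsg.Agent.H72.AdjOrth.ee (p ^ f) a → a ≠ p := by
      rintro a ha h1 rfl
      have hf : f ≠ 0 := by
        rintro rfl
        rw [pow_zero] at hF
        have := Fintype.one_lt_card (α := F)
        omega
      have h2 : (((a ^ f : ℕ)) : ZMod a) = 0 := by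
        rw [ZMod.natCast_eq_zero_iff]
        exact dvd_pow_self a hf
      rw [Cfsg.Agent.H72.AdjOrth.ee, h2] at h1
      have := Fact.mk ha
      have h3 : (0 : ZMod a) ^ orderOf (0 : ZMod a) = 1 := pow_orderOf_eq_one _
      rw [zero_pow (by omega)] at h3
      exact zero_ne_one h3
    have hmov : ∀ {a : ℕ}, a.Prime → a ≠ 2 → a ≠ p → Cfsg.Agent.H72.AdjOrth.ee (p ^ f) a = m → Mov S p a := by
      intro a ha ha2 hap h1
      refine (movA_fam_oplus hp hI' ha ha2 (hndvd ha hap) (by rw [hcls, h1]; omega) ?_ ?_).mov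
      · rw [hcls, h1]
        exact Or.inr ⟨rfl, Nat.odd_iff.1 c1⟩
      · rw [hcls, h1]
        show ¬ m + 2 = 2 * m
        omega
    rcases c3 with ⟨c3, c4⟩ | ⟨c3, c4⟩
    · have h1 := hnep h.pr (by omega)
      exact ⟨h1, hnep h.ps (by omega), Or.inl (hmov h.pr h.r2 h1 c3)⟩
    · have h1 := hnep h.ps (by omega)
      exact ⟨hnep h.pr (by omega), h1, Or.inr (hmov h.ps h.s2 h1 c4)⟩
  | ominus m =>
    have hI' := hI
    obtain ⟨hm, F, _, _, _, a, b, hF, hab, ⟨e⟩⟩ := hI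
    have h' := h.of_mulEquiv e
    have hodd : Odd (Nat.card F) := by rw [Nat.card_eq_fintype_card, hF]; exact hpo.pow
    obtain ⟨c1, -, c3⟩ := TwoSep.ominus hm hodd hab h'
    have hF' : Nat.card F = p ^ f := by rw [Nat.card_eq_fintype_card, hF]
    rw [hF'] at c3
    have hcls : ∀ a : ℕ, cls (.ominus m) (p ^ f) a = Cfsg.Agent.H72.AdjOrth.ee (p ^ f) a := by
      intro a
      rw [cls_eq_co (by intro k; exact fun h => by cases h)]
      rfl
    have hnep : ∀ {a : ℕ}, a.Prime → 1 ≤ Cfsg.Agent.H72.AdjOrth.ee (p ^ f) a → a ≠ p := by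
      rintro a ha h1 rfl
      have hf : f ≠ 0 := by
        rintro rfl
        rw [pow_zero] at hF
        have := Fintype.one_lt_card (α := F)
        omega
      have h2 : (((a ^ f : ℕ)) : ZMod a) = 0 := by
        rw [ZMod.natCast_eq_zero_iff]
        exact dvd_pow_self a hf
      rw [Cfsg.Agent.H72.AdjOrth.ee, h2] at h1
      have := Fact.mk ha
      have h3 : (0 : ZMod a) ^ orderOf (0 : ZMod a) = 1 := pow_orderOf_eq_one _
      rw [zero_pow (by omega)] at h3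
      exact zero_ne_one h3
    have hmov : ∀ {a : ℕ}, a.Prime → a ≠ 2 → a ≠ p → Cfsg.Agent.H72.AdjOrth.ee (p ^ f) a = 2 * (m - 1) → Mov S p a := by
      intro a ha ha2 hap h1
      refine (movA_fam_ominus hp hI' ha ha2 (hndvd ha hap) (by rw [hcls, h1]; omega) ?_ ?_).mov
      · rw [hcls, h1]
        left
        rw [eta, if_pos (by omega)]
        omega
      · rw [hcls, h1]
        show ¬ 2 * (m - 1) = 2 * m
        omega
    rcases c3 with ⟨c3, c4⟩ | ⟨c3, c4⟩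
    · have h1 := hnep h.ps (by omega)
      exact ⟨hnep h.pr (by omega), h1, Or.inr (hmov h.ps h.s2 h1 c4)⟩
    · have h1 := hnep h.pr (by omega)
      exact ⟨h1, hnep h.ps (by omega), Or.inl (hmov h.pr h.r2 h1 c3)⟩
  | g2 => exact ht.elim
  | f4 => exact ht.elim
  | e6 => exact ht.elim
  | e7 => exact ht.elim
  | e8 => exact ht.elim
  | te6 => exact ht.elim
  | td4 => exact ht.elim
  | sz => exact ht.elim
  | tf4 => exact ht.elim
  | ree => exact ht.elim

end Cfsg.Agent.R2.Spec.X6
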