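import Cfsg.Agent.R2.Spec.X6.Cyc

/-!
# The arithmetic for `L₂(u)`, `n = 6` (helper2, S3435, box X6)

`g₅ ∈ {1, 5}`, `g₃ ∈ {1, 3}`; `x = ± q`.
-/

set_option autoImplicit false
set_option linter.unusedSectionVars false

namespace Cfsg.Agent.R2.Spec.X6

/-- the field -/
structure QX (q : ℕ) (x : ℤ) : Prop where
  hx : x = q ∨ x = -q
  he : q % 2 = 0
  h2 : 2 ≤ q
  h6 : q ≠ 6
  hne : x ≠ 2

namespace QX

variable {q : ℕ} {x : ℤ}

theorem sq (h : QX q x) : x ^ 2 = (q : ℤ) ^ 2 := by
  rcases h.hx with h | h <;> rw [h]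
  ring

theorem cases (h : QX q x) : x = -2 ∨ x = 4 ∨ x = -4 ∨ 8 ≤ q := by
  have h1 := h.hx
  have h2 := h.he
  have h3 := h.h2
  have h4 := h.h6
  have h5 := h.hne
  have h6 : q = 2 ∨ q = 4 ∨ 8 ≤ q := by omega
  rcases h6 with rfl | rfl | h6
  · rcases h1 with h1 | h1
    · exact absurd h1 h5
    · left; exact h1
  · rcases h1 with h1 | h1
    · right; left; exact h1
    · right; right; left; exact h1
  · exact Or.inr (Or.inr (Or.inr h6))

theorem even (h : QX q x) : x % 2 = 0 := by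
  have h2 := h.he
  rcases h.hx with h1 | h1 <;> omega

theorem abs_le (h : QX q x) : x ≤ q ∧ -(q : ℤ) ≤ x := by
  rcases h.hx with h1 | h1 <;> omega

theorem P6_le (h : QX q x) : P6 x ≤ (q : ℤ) ^ 2 + q + 1 := by
  have h1 := h.sq
  have h2 := h.abs_le
  unfold P6
  linarith

theorem le_P6 (h : QX q x) : (q : ℤ) ^ 2 - q + 1 ≤ P6 x := by
  have h1 := h.sq
  have h2 := h.abs_le
  unfold P6
  linarith

theorem le_P5 (h : QX q x) : (q : ℤ) ^ 4 - q ^ 3 + q ^ 2 - q + 1 ≤ P5 x := by
  unfold P5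
  have hq : (0 : ℤ) ≤ q := by positivity
  have h3 : (0 : ℤ) ≤ (q : ℤ) ^ 3 := by positivity
  rcases h.hx with h | h <;> rw [h]
  · linarith
  · apply le_of_eq
    ring

end QX

variable {q : ℕ} {x : ℤ}

theorem P5_mod_P6 (x : ℤ) : P5 x = (x ^ 2 + 2 * x + 2) * P6 x + (x - 1) := by unfold P5 P6; ring

theorem P5_mod_P4 (x : ℤ) : P5 x = (x ^ 2 + x) * (x ^ 2 + 1) + 1 := by unfold P5; ring

theorem P6_mod_P4 (x : ℤ) : P6 x = (x ^ 2 + 1) - x := by unfold P6; ring

/-- case A, `p` of class `5` -/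
theorem numA1 (h : QX q x) {g g' p c : ℕ} (hg : g = 1 ∨ g = 5) (hg' : g' = 1 ∨ g' = 3) (h5 : (g : ℤ) * p = P5 x)
    (h6 : (g' : ℤ) * c = P6 x) (hd : (c : ℤ) ∣ (p : ℤ) + 1) : x = -4 ∧ p = 41 := by
  have hev := h.even
  have h1 : (c : ℤ) ∣ x - 1 + g := by
    have h2 : (c : ℤ) ∣ (g : ℤ) * (p + 1) := hd.mul_left _
    have h3 : (g : ℤ) * (p + 1) = (x ^ 2 + 2 * x + 2) * (g' * c) + (x - 1 + g) := by
      rw [mul_add, h5, h6, P5_mod_P6]; ring
    rw [h3] at h2
    exact (dvd_add_right (((dvd_mul_left _ _).mul_left _))).1 h2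
  have h6' : P6 x = x * (x - 1) + 1 := by unfold P6; ring
  have hc0 : 0 < c := by
    rcases Nat.eq_zero_or_pos c with h0 | h0
    · exfalso
      have := P6_pos x
      rw [← h6, h0] at this
      simp at this
    · exact h0
  have h2q := h.h2
  rcases hg with rfl | rfl
  · exfalso
    have h2 : (c : ℤ) ∣ x := by
      have : x - 1 + ((1 : ℕ) : ℤ) = x := by push_cast; ring
      rwa [this] at h1
    have h3 : (c : ℤ) ∣ 1 := by
      have h4 : (c : ℤ) ∣ P6 x := by rw [← h6]; exact dvd_mul_left _ _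
      rw [h6'] at h4
      exact (dvd_add_right (h2.mul_right _)).1 h4
    have h4 : c = 1 := by
      have := Int.le_of_dvd one_pos h3
      omega
    subst h4
    have h5 := h.le_P6
    have h7 : P6 x ≤ 3 := by
      rw [← h6]
      rcases hg' with rfl | rfl <;> norm_num
    rcases h.cases with rfl | rfl | rfl | h8
    · norm_num [P6] at h7
    · norm_num [P6] at h7
    · norm_num [P6] at h7
    · have : (8 : ℤ) ≤ q := by exact_mod_cast h8
      nlinarith
  · by_cases hx4 : x + 4 = 0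
    · have hx : x = -4 := by linarith
      refine ⟨hx, ?_⟩
      rw [hx] at h5
      norm_num [P5] at h5
      omega
    · exfalso
      have h2 : (c : ℤ) ∣ x + 4 := by
        have : x - 1 + ((5 : ℕ) : ℤ) = x + 4 := by push_cast; ring
        rwa [this] at h1
      have h3 : (c : ℤ) ≤ |x + 4| := Int.le_of_dvd (abs_pos.2 hx4) ((dvd_abs _ _).2 h2)
      have h4 : P6 x ≤ 3 * |x + 4| := by
        rw [← h6]
        have : (0 : ℤ) ≤ |x + 4| := abs_nonneg _
        rcases hg' with rfl | rfl <;> push_cast <;> linarith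
      rcases h.cases with rfl | rfl | rfl | h8
      · norm_num [P6] at h4
      · norm_num [P5] at h5
        omega
      · norm_num at hx4
      · have h9 : (8 : ℤ) ≤ q := by exact_mod_cast h8
        have h10 := h.le_P6
        have h11 : |x + 4| ≤ q + 4 := by
          rw [_root_.abs_le]
          have := h.abs_le
          constructor <;> linarith
        nlinarith

/-- the number of the class `5` is large -/
theorem big5 (h : QX q x) {g g' p c : ℕ} (hg : g = 1 ∨ g = 3) (hg' : g' = 1 ∨ g' = 5) (h6 : (g : ℤ) * p = P6 x)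
    (h5 : (g' : ℤ) * c = P5 x) : (x = -2 ∧ p = 7 ∧ c = 11) ∨ p + 1 < c := by
  by_contra hcon
  rw [not_or, not_lt] at hcon
  obtain ⟨hcon, h1⟩ := hcon
  have h2 : (c : ℤ) ≤ p + 1 := by exact_mod_cast h1
  have h3 : (p : ℤ) ≤ P6 x := by
    rw [← h6]
    have : (0 : ℤ) ≤ p := by positivity
    rcases hg with rfl | rfl <;> push_cast <;> linarith
  have h4 : P5 x ≤ 5 * c := by
    rw [← h5]
    have : (0 : ℤ) ≤ c := by positivity
    rcases hg' with rfl | rfl <;> push_cast <;> linarith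
  rcases h.cases with rfl | rfl | rfl | h8
  · apply hcon
    norm_num [P5] at h5
    norm_num [P6] at h6
    refine ⟨rfl, ?_, ?_⟩
    · rcases hg with rfl | rfl <;> omega
    · rcases hg' with rfl | rfl <;> omega
  · norm_num [P5] at h4
    norm_num [P6] at h3
    omega
  · norm_num [P5] at h4
    norm_num [P6] at h3
    omega
  · have h9 : (8 : ℤ) ≤ q := by exact_mod_cast h8
    have h10 := h.le_P5
    have h11 := h.P6_le
    have h12 : (q : ℤ) ^ 4 = q * q ^ 3 := by ring
    have h13 : (q : ℤ) ^ 3 = q * q ^ 2 := by ring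
    have h14 : (0 : ℤ) ≤ (q : ℤ) ^ 3 := by positivity
    have h15 : (0 : ℤ) ≤ (q : ℤ) ^ 2 := by positivity
    nlinarith

theorem numA2 (h : QX q x) {g g' p c : ℕ} (hg : g = 1 ∨ g = 3) (hg' : g' = 1 ∨ g' = 5) (h6 : (g : ℤ) * p = P6 x)
    (h5 : (g' : ℤ) * c = P5 x) (hd : c ∣ p + 1) : False := by
  rcases big5 h hg hg' h6 h5 with ⟨-, rfl, rfl⟩ | h1
  · norm_num at hd
  · have := Nat.le_of_dvd (by omega) hd
    omega

/-- the size, `p` of class `6` -/
theorem numS6 (h : QX q x) {g p f : ℕ} (hg : g = 1 ∨ g = 3) (h6 : (g : ℤ) * p = P6 x) (hf : 5 ≤ f)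
    (hu : p ^ f ≤ 6 * q ^ 6 + 1) : x = -4 ∧ p = 7 ∧ f = 5 := by
  have hp1 : 1 ≤ p := by
    rcases Nat.eq_zero_or_pos p with h0 | h0
    · exfalso
      have := P6_pos x
      rw [← h6, h0] at this
      simp at this
    · exact h0
  have h5 : p ^ 5 ≤ p ^ f := Nat.pow_le_pow_right hp1 hf
  have hq := h.hx
  rcases h.cases with rfl | rfl | rfl | h8
  · exfalso
    have : q = 2 := by omega
    subst this
    norm_num [P6] at h6
    have : p = 7 := by rcases hg with rfl | rfl <;> omega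
    subst this
    norm_num at h5 hu
    omega
  · exfalso
    have : q = 4 := by omega
    subst this
    norm_num [P6] at h6
    have : p = 13 := by rcases hg with rfl | rfl <;> omega
    subst this
    norm_num at h5 hu
    omega
  · have : q = 4 := by omega
    subst this
    norm_num [P6] at h6
    rcases hg with rfl | rfl
    · exfalso
      have : p = 21 := by omega
      subst this
      norm_num at h5 hu
      omega
    · have : p = 7 := by omega
      subst this
      refine ⟨rfl, rfl, ?_⟩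
      by_contra hne
      have h6' : 7 ^ 6 ≤ 7 ^ f := Nat.pow_le_pow_right (by norm_num) (by omega)
      norm_num at h6' hu
      omega
  · exfalso
    have h1 := h.le_P6
    have h9 : (8 : ℤ) ≤ q := by exact_mod_cast h8
    have h2 : 7 * (q : ℤ) ^ 2 ≤ 24 * p := by
      have h3 : P6 x ≤ 3 * p := by
        rw [← h6]
        have : (0 : ℤ) ≤ p := by positivity
        rcases hg with rfl | rfl <;> push_cast <;> linarith
      nlinarith
    have h3 : 7 * q ^ 2 ≤ 24 * p := by exact_mod_cast h2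
    have h4 : (7 * q ^ 2) ^ 5 ≤ (24 * p) ^ 5 := Nat.pow_le_pow_left h3 5
    have h7 : (7 * q ^ 2) ^ 5 = 16807 * (q ^ 4 * q ^ 6) := by ring
    have h10 : (24 * p) ^ 5 = 7962624 * p ^ 5 := by ring
    have h11 : 8 ^ 4 ≤ q ^ 4 := Nat.pow_le_pow_left h8 4
    have h12 : 1 ≤ q ^ 6 := Nat.one_le_pow _ _ (by omega)
    have h13 : 8 ^ 4 * q ^ 6 ≤ q ^ 4 * q ^ 6 := Nat.mul_le_mul_right _ h11
    norm_num at h13
    omega

/-- the size, `p` of class `5` -/
theorem numS5 (h : QX q x) {g p f : ℕ} (hg : g = 1 ∨ g = 5) (h5 : (g : ℤ) * p = P5 x) (hf : 3 ≤ f)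
    (hu : p ^ f ≤ 6 * q ^ 6 + 1) : False := by
  have hp1 : 1 ≤ p := by
    rcases Nat.eq_zero_or_pos p with h0 | h0
    · exfalso
      have := P5_pos x
      rw [← h5, h0] at this
      simp at this
    · exact h0
  have h3 : p ^ 3 ≤ p ^ f := Nat.pow_le_pow_right hp1 hf
  have hq := h.hx
  rcases h.cases with rfl | rfl | rfl | h8
  · have : q = 2 := by omega
    subst this
    norm_num [P5] at h5
    have : p = 11 := by rcases hg with rfl | rfl <;> omega
    subst this
    norm_num at h3 hu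
    omega
  · have : q = 4 := by omega
    subst this
    norm_num [P5] at h5
    have : p = 341 := by rcases hg with rfl | rfl <;> omega
    subst this
    norm_num at h3 hu
    omega
  · have : q = 4 := by omega
    subst this
    norm_num [P5] at h5
    have hp41 : 41 ≤ p := by rcases hg with rfl | rfl <;> omega
    have : 41 ^ 3 ≤ p ^ 3 := Nat.pow_le_pow_left hp41 3
    norm_num at h3 hu this
    omega
  · have h1 := h.le_P5
    have h9 : (8 : ℤ) ≤ q := by exact_mod_cast h8
    have h2 : 7 * (q : ℤ) ^ 4 ≤ 40 * p := by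
      have h3 : P5 x ≤ 5 * p := by
        rw [← h5]
        have : (0 : ℤ) ≤ p := by positivity
        rcases hg with rfl | rfl <;> push_cast <;> linarith
      have h12 : (q : ℤ) ^ 4 = q * q ^ 3 := by ring
      have h14 : (0 : ℤ) ≤ (q : ℤ) ^ 3 := by positivity
      nlinarith
    have h4 : 7 * q ^ 4 ≤ 40 * p := by exact_mod_cast h2
    have h6 : (7 * q ^ 4) ^ 3 ≤ (40 * p) ^ 3 := Nat.pow_le_pow_left h4 3
    have h7 : (7 * q ^ 4) ^ 3 = 343 * (q ^ 6 * q ^ 6) := by ring
    have h10 : (40 * p) ^ 3 = 64000 * p ^ 3 := by ring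
    have h11 : 8 ^ 6 ≤ q ^ 6 := Nat.pow_le_pow_left h8 6
    have h12 : 1 ≤ q ^ 6 := Nat.one_le_pow _ _ (by omega)
    have h13 : 8 ^ 6 * q ^ 6 ≤ q ^ 6 * q ^ 6 := Nat.mul_le_mul_right _ h11
    norm_num at h13
    omega

/-- case C, `p` of class `5` -/
theorem numC1 (h : QX q x) {g g' p c f : ℕ} (hg : g = 1 ∨ g = 5) (hg' : g' = 1 ∨ g' = 3) (h5 : (g : ℤ) * p = P5 x)
    (h6 : (g' : ℤ) * c = P6 x) {ε : ℤ} (hε : ε = 1 ∨ ε = -1) (hf : f % 2 = 1) (hu : p ^ f ≤ 6 * q ^ 6 + 1)
    (hd : (c : ℤ) ∣ (p : ℤ) ^ f + ε) (hd4 : x ^ 2 + 1 ∣ (p : ℤ) ^ f - ε) : False := by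
  have hf1 : f = 1 := by
    by_contra hne
    exact numS5 h hg h5 (by omega) hu
  subst hf1
  rw [pow_one] at hd hd4
  rcases hε with rfl | rfl
  · obtain ⟨rfl, rfl⟩ := numA1 h hg hg' h5 h6 hd
    norm_num at hd4
  · have h1 : x ^ 2 + 1 ∣ (g : ℤ) * (p - -1) := hd4.mul_left _
    have h2 : (g : ℤ) * (p - -1) = (x ^ 2 + x) * (x ^ 2 + 1) + (1 + g) := by
      rw [mul_sub, h5, P5_mod_P4]; ring
    rw [h2] at h1
    have h3 := (dvd_add_right (dvd_mul_left _ _)).1 h1
    have h4 : x ^ 2 + 1 ≤ 1 + g := Int.le_of_dvd (by positivity) h3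
    rcases h.cases with rfl | rfl | rfl | h8
    · rcases hg with rfl | rfl <;> norm_num at h3
    · rcases hg with rfl | rfl <;> norm_num at h3
    · rcases hg with rfl | rfl <;> norm_num at h3
    · have h9 : (8 : ℤ) ≤ q := by exact_mod_cast h8
      have h10 := h.sq
      rcases hg with rfl | rfl <;> push_cast at h4 <;> nlinarith

/-- case C, `p` of class `6` -/
theorem numC2 (h : QX q x) {g g' p c f : ℕ} (hg : g = 1 ∨ g = 3) (hg' : g' = 1 ∨ g' = 5) (h6 : (g : ℤ) * p = P6 x)
    (h5 : (g' : ℤ) * c = P5 x) {ε : ℤ} (hε : ε = 1 ∨ ε = -1) (hf : f % 2 = 1) (hu : p ^ f ≤ 6 * q ^ 6 + 1)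
    (hd : (c : ℤ) ∣ (p : ℤ) ^ f + ε) (hd4 : x ^ 2 + 1 ∣ (p : ℤ) ^ f - ε) : False := by
  have hp1 : 1 ≤ p := by
    rcases Nat.eq_zero_or_pos p with h0 | h0
    · exfalso
      have := P6_pos x
      rw [← h6, h0] at this
      simp at this
    · exact h0
  rcases (by omega : f = 1 ∨ f = 3 ∨ 5 ≤ f) with rfl | rfl | hf5
  · rw [pow_one] at hd
    rcases big5 h hg hg' h6 h5 with ⟨-, rfl, rfl⟩ | h1
    · rcases hε with rfl | rfl <;> norm_num at hd
    · have h2 : (0 : ℤ) < (p : ℤ) + ε := by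
        by_contra hcon
        have hp : p = 1 := by rcases hε with rfl | rfl <;> omega
        subst hp
        have h3 := h.le_P6
        have h4 : P6 x ≤ 3 := by
          rw [← h6]
          rcases hg with rfl | rfl <;> norm_num
        rcases h.cases with rfl | rfl | rfl | h8
        · norm_num [P6] at h4
        · norm_num [P6] at h4
        · norm_num [P6] at h4
        · have h9 : (8 : ℤ) ≤ q := by exact_mod_cast h8
          nlinarith
      have h3 := Int.le_of_dvd h2 hd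
      rcases hε with rfl | rfl <;> omega
  · -- `f = 3`
    have h1 : x ^ 2 + 1 ∣ (g : ℤ) ^ 3 * ε - x := by
      have h2 : (g : ℤ) ^ 3 * ε - x = ((g * p) ^ 3 - x) - (g : ℤ) ^ 3 * ((p : ℤ) ^ 3 - ε) := by ring
      rw [h2]
      refine dvd_sub ?_ (hd4.mul_left _)
      rw [h6]
      unfold P6
      exact ⟨x ^ 4 - 3 * x ^ 3 + 5 * x ^ 2 - 4 * x + 1, by ring⟩
    have hev := h.even
    rcases hg with rfl | rfl
    · push_cast at h1
      rw [one_mul] at h1
      have hne : ε - x ≠ 0 := by rcases hε with rfl | rfl <;> omega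
      have h2 := Int.le_of_dvd (abs_pos.2 hne) ((dvd_abs _ _).2 h1)
      have h3 : |ε - x| ≤ 1 + q := by
        rw [_root_.abs_le]
        have := h.abs_le
        rcases hε with rfl | rfl <;> constructor <;> linarith
      have h4 := h.sq
      have h5 : (2 : ℤ) ≤ q := by exact_mod_cast h.h2
      nlinarith
    · norm_num at h1
      have hne : 27 * ε - x ≠ 0 := by rcases hε with rfl | rfl <;> omega
      rcases h.cases with rfl | rfl | rfl | h8
      · norm_num [P6] at h6
        omega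
      · norm_num [P6] at h6
        omega
      · rcases hε with rfl | rfl <;> norm_num at h1
      · have h2 := Int.le_of_dvd (abs_pos.2 hne) ((dvd_abs _ _).2 h1)
        have h3 : |27 * ε - x| ≤ 27 + q := by
          rw [_root_.abs_le]
          have := h.abs_le
          rcases hε with rfl | rfl <;> constructor <;> linarith
        have h4 := h.sq
        have h9 : (8 : ℤ) ≤ q := by exact_mod_cast h8
        nlinarith
  · obtain ⟨rfl, rfl, rfl⟩ := numS6 h hg h6 hf5 hu
    rcases hε with rfl | rfl <;> norm_num at hd4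

end Cfsg.Agent.R2.Spec.X6
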