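import Cfsg.Agent.R2.Spec.X6.ReeNum
import Cfsg.Agent.R2.Spec.X6.Good
import Cfsg.Agent.R2.Spec.X6.Frame
import Cfsg.Agent.H77.E4Final

/-!
# `PSL_n(q)`, `PSU_n(q)`, `q = 2 ^ k`: the section is not `²G₂(u)`, ranks 6, 7, 8, 9, ≥ 11 (helper2, S3435, box X6)
-/

set_option autoImplicit false
set_option linter.unusedSectionVars false

namespace Cfsg.Agent.R2.Spec.X6

open Subgroup Cfsg Cfsg.Agent.H403 Cfsg.Agent.H403.NumTop Cfsg.Agent.H321.SpecEven
open Cfsg.Agent.H228.E3 Cfsg.Agent.H200.STwo.E3Glue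
open Cfsg.Agent.H420.QR (Red)
open Cfsg.Agent.H426.LieFam (Fam)
open Cfsg.Agent.H77.E4ReeA Cfsg.Agent.H77.E4ReeB Cfsg.Agent.H77.E4ReeC Cfsg.Agent.H77.E4ReeE

universe u v w

variable {F : Type w} [Field F] [Fintype F] {e : Bool} {n k : ℕ} {L : Type v} [Group L] [Finite L]
  {G : Type u} [Group G] [Finite G] {K : Subgroup G} [K.Normal] {S : Subgroup (G ⧸ K)} [S.Normal] {m : ℕ}

/-- primes of a class at least `5` are prime to `6` -/
theorem Hyp.cop_six (H : Hyp e n k F L) {c i : ℕ} (hi : 5 ≤ i) (h : ∀ r : ℕ, r.Prime → r ∣ c → od e (2 ^ k) r = i) :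
    Nat.Coprime c 6 := by
  refine Nat.Coprime.symm (Nat.coprime_of_dvd fun r hr h6 hc => ?_)
  have h1 := h r hr hc
  have h2 := od_lt (e := e) (q := 2 ^ k) hr (by omega)
  have h3 := Nat.le_of_dvd (by norm_num) h6
  have h4 : r = 6 := by omega
  rw [h4] at hr
  exact absurd hr (by norm_num)

/-- the numbers of the classes `n`, `n - 1` divide `u ± √(3u) + 1` -/
theorem in_four (H : Hyp e n k F L) (hω : H228.E3.SameOrd G L) (R : Red G K S) (T : ReeS m ↥S) {i c : ℕ}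
    (hi : i = n ∨ i = n - 1) (h : ∀ r : ℕ, r.Prime → r ∣ c → od e (2 ^ k) r = i) (hc : c ∣ AA e i (2 ^ k)) (h1 : 1 < c) :
    ∃ j, c ∣ NN m j ∧ (j = 2 ∨ j = 3) := by
  have hn := H.hn
  obtain ⟨j, hj⟩ := T.dv h1 (H.cop_six (by omega) h) (mem_top H hω R hi h hc)
  refine ⟨j, hj, ?_⟩
  by_contra hcon
  have hj2 : j = 0 ∨ j = 1 := (by decide : ∀ i : Fin 4, ¬ (i = 2 ∨ i = 3) → i = 0 ∨ i = 1) j hcon
  obtain ⟨r, hr, hrc⟩ := Nat.exists_prime_and_dvd h1.ne'
  have hr1 := h r hr hrc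
  have hr2 : r ≠ 2 := H.ne_two (by omega)
  refine H.far hr (by rw [hr1]; exact hi) (mem_L (S := S) hω ?_)
  exact T.adj Nat.prime_two hr hr2.symm (two_dvd_NN m hj2) (hrc.trans hj)

/-- **The two numbers.** -/
theorem ree_pair (H : Hyp e n k F L) (hω : H228.E3.SameOrd G L) (R : Red G K S) (T : ReeS m ↥S) :
    ∃ i j : Fin 4, ((i = 2 ∧ j = 3) ∨ (i = 3 ∧ j = 2)) ∧
      (∀ c : ℕ, (∀ r : ℕ, r.Prime → r ∣ c → od e (2 ^ k) r = n) → c ∣ AA e n (2 ^ k) → c ∣ NN m i) ∧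
      (∀ c : ℕ, (∀ r : ℕ, r.Prime → r ∣ c → od e (2 ^ k) r = n - 1) → c ∣ AA e (n - 1) (2 ^ k) → c ∣ NN m j) := by
  have hn := H.hn
  obtain ⟨a, ha, ha1⟩ := H.exists_od (i := n) (by omega)
  obtain ⟨b, hb, hb1⟩ := H.exists_od (i := n - 1) (by omega)
  have hone : ∀ {r s i : ℕ}, s.Prime → od e (2 ^ k) s = i → r.Prime → r ∣ s → od e (2 ^ k) r = i := fun hs h1 hr hd => by
    rw [(Nat.prime_dvd_prime_iff_eq hr hs).1 hd, h1]
  obtain ⟨i, hi, hi2⟩ := in_four H hω R T (Or.inl rfl) (c := a) (fun r hr hd => hone ha ha1 hr hd)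
    (by have := dvd_AA_od (e := e) (k := k) (r := a); rwa [ha1] at this) ha.one_lt
  obtain ⟨j, hj, hj2⟩ := in_four H hω R T (Or.inr rfl) (c := b) (fun r hr hd => hone hb hb1 hr hd)
    (by have := dvd_AA_od (e := e) (k := k) (r := b); rwa [hb1] at this) hb.one_lt
  -- classes `n` and `n - 1` lie in different cliques
  have key : ∀ {x y : ℕ} {l : Fin 4}, x.Prime → y.Prime → od e (2 ^ k) x = n → od e (2 ^ k) y = n - 1 → x ∣ NN m l →
      y ∣ NN m l → False := by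
    intro x y l hx hy hx1 hy1 hxl hyl
    have hxy : x ≠ y := by
      rintro rfl
      omega
    refine H.nadj hx hy (by omega) (by omega) (by omega) ?_ ?_ (mem_L hω (T.adj hx hy hxy hxl hyl))
    · rw [hx1, hy1]
      intro hd
      have := Nat.le_of_dvd (by omega) hd
      omega
    · rw [hx1, hy1]
      rintro ⟨t, ht⟩
      rcases (by omega : t = 0 ∨ t = 1 ∨ 2 ≤ t) with rfl | rfl | h2
      · omega
      · omega
      · have : (n - 1) * 2 ≤ (n - 1) * t := Nat.mul_le_mul_left _ h2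
        omega
  have hij : i ≠ j := fun h => key ha hb ha1 hb1 hi (h ▸ hj)
  have hij2 : (i = 2 ∧ j = 3) ∨ (i = 3 ∧ j = 2) := by
    rcases hi2 with rfl | rfl <;> rcases hj2 with rfl | rfl
    · exact absurd rfl hij
    · exact Or.inl ⟨rfl, rfl⟩
    · exact Or.inr ⟨rfl, rfl⟩
    · exact absurd rfl hij
  refine ⟨i, j, hij2, fun c hc hcd => ?_, fun c hc hcd => ?_⟩
  · rcases (by omega : c = 0 ∨ c = 1 ∨ 1 < c) with rfl | rfl | h1
    · rw [zero_dvd_iff] at hcd
      have := AA_pos (e := e) H.q2 (i := n) (by omega)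
      omega
    · exact one_dvd _
    · obtain ⟨l, hl, hl2⟩ := in_four H hω R T (Or.inl rfl) hc hcd h1
      obtain ⟨r, hr, hrc⟩ := Nat.exists_prime_and_dvd h1.ne'
      have hlj : l ≠ j := fun h => key hr hb (hc r hr hrc) hb1 (hrc.trans hl) (h ▸ hj)
      have hli : l = i := by
        rcases hij2 with ⟨rfl, rfl⟩ | ⟨rfl, rfl⟩ <;> rcases hl2 with rfl | rfl <;>
          first | rfl | exact absurd rfl hlj
      rwa [hli] at hl
  · rcases (by omega : c = 0 ∨ c = 1 ∨ 1 < c) with rfl | rfl | h1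
    · rw [zero_dvd_iff] at hcd
      have := AA_pos (e := e) H.q2 (i := n - 1) (by omega)
      omega
    · exact one_dvd _
    · obtain ⟨l, hl, hl2⟩ := in_four H hω R T (Or.inr rfl) hc hcd h1
      obtain ⟨r, hr, hrc⟩ := Nat.exists_prime_and_dvd h1.ne'
      have hlj : l ≠ i := fun h => key ha hr ha1 (hc r hr hrc) hi (h ▸ (hrc.trans hl))
      have hli : l = j := by
        rcases hij2 with ⟨rfl, rfl⟩ | ⟨rfl, rfl⟩ <;> rcases hl2 with rfl | rfl <;>
          first | rfl | exact absurd rfl hlj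
      rwa [hli] at hl

theorem NN_mem (hω : H228.E3.SameOrd G L) (T : ReeS m ↥S) (i : Fin 4) : ∃ y : L, orderOf y = NN m i :=
  mem_L hω ((T.spec _).2 (Or.inr (Or.inr ⟨i, dvd_rfl⟩)))

/-- **Rank 7.** -/
theorem ree_seven (H : Hyp e 7 k F L) (hω : H228.E3.SameOrd G L) (R : Red G K S) (T : ReeS m ↥S) : False := by
  have hq2 := H.q2
  obtain ⟨i, j, hij, hc7, hc6⟩ := ree_pair H hω R T
  obtain ⟨N3, Y3, -, -, hlt, -, -, -, -⟩ := twoN T.hk hij
  obtain ⟨g, c, hg7, hg1, hgc, hcls, hcA⟩ := exists_c7 e (q := 2 ^ k) (by omega)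
  have hcX : c ∣ NN m i := hc7 c hcls hcA
  -- the other number
  obtain ⟨b, hb, hb1⟩ := H.exists_od (i := 6) (by norm_num)
  have hbY : b ∣ NN m j := hc6 b (fun r hr hd => by rw [(Nat.prime_dvd_prime_iff_eq hr hb).1 hd, hb1])
    (by have := dvd_AA_od (e := e) (k := k) (r := b); rwa [hb1] at this)
  obtain ⟨y, hy⟩ := NN_mem hω T j
  have h1 := H.pred_dvd hb hb1 (g := y) (by rw [hy]; exact hbY)
  rw [hy] at h1
  have hA6 : AA e 6 (2 ^ k) = (2 ^ k) ^ 6 - 1 := by cases e <;> rfl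
  change NN m j * dd e 7 (2 ^ k) ∣ AA e 6 (2 ^ k) at h1
  rw [hA6] at h1
  obtain ⟨t, ht⟩ := h1
  have hd7 : dd e 7 (2 ^ k) ∣ 7 := Nat.gcd_dvd_left _ _
  have hd0 : 0 < dd e 7 (2 ^ k) := Nat.gcd_pos_of_pos_left _ (by norm_num)
  have hgd : g ≤ dd e 7 (2 ^ k) := Nat.le_of_dvd hd0 (Nat.dvd_gcd hg7 hg1)
  -- `3 ∣ t`
  have h3 : (2 ^ k) ^ 6 % 3 = 1 := by
    rw [← pow_mul, mul_comm, pow_mul, Nat.pow_mod]
    norm_num
  have hd3 : dd e 7 (2 ^ k) % 3 = 1 := by
    have h5 := (Nat.dvd_prime (by norm_num : Nat.Prime 7)).1 hd7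
    rcases h5 with h5 | h5 <;> rw [h5]
  have hpos : 1 < (2 ^ k) ^ 6 := by
    calc 1 < 2 ^ 6 := by norm_num
      _ ≤ _ := Nat.pow_le_pow_left hq2 6
  have ht3 : t % 3 = 0 := by
    have h5 : (NN m j * dd e 7 (2 ^ k) * t) % 3 = 0 := by rw [← ht]; omega
    rw [Nat.mul_mod, Nat.mul_mod (NN m j), Y3, hd3] at h5
    simpa using h5
  have ht0 : t ≠ 0 := by
    rintro rfl
    rw [mul_zero] at ht
    omega
  have hX0 : 0 < NN m i := by
    rcases Nat.eq_zero_or_pos (NN m i) with h | h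
    · rw [h] at N3; omega
    · exact h
  exact seven_ineq hq2 hgd hd0 hgc (Nat.le_of_dvd hX0 hcX) ht.symm (by omega) hlt

/-- the class 8 -/
theorem oc_eight {k r : ℕ} (hk : 1 ≤ k) (hr : r.Prime) (h : r ∣ (2 ^ k) ^ 4 + 1) : od e (2 ^ k) r = 8 := by
  have hq2 := q_mod hk
  have h1 := oc8 hq2 r hr h
  refine order_of_nu hr (by norm_num) ?_
  rw [h1]
  cases e <;> rfl

theorem AA_eight {q : ℕ} : q ^ 4 + 1 ∣ AA e 8 q := by
  have h : AA e 8 q = q ^ 8 - 1 := by cases e <;> rfl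
  rw [h]
  refine ⟨q ^ 4 - 1, ?_⟩
  have := Nat.sq_sub_sq (q ^ 4) 1
  rw [one_pow] at this
  rw [← this, show (q ^ 4) ^ 2 = q ^ 8 by ring]

/-- **Ranks 8, 9.** -/
theorem ree_eight (H : Hyp e n k F L) (hn8 : 8 = n ∨ 8 = n - 1) (hω : H228.E3.SameOrd G L) (R : Red G K S)
    (T : ReeS m ↥S) : False := by
  have hk := H.hk
  have hq2 := q_mod hk
  have hq1 : 1 ≤ 2 ^ k := Nat.one_le_pow _ _ (by norm_num)
  have hres := q_res k
  obtain ⟨x, hx⟩ := mem_top H hω R hn8 (c := (2 ^ k) ^ 4 + 1) (fun r hr hd => oc_eight hk hr hd) AA_eight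
  set q := 2 ^ k with hq
  have h3 : q % 3 ≠ 0 := by omega
  have e3 := four_mod h3
  have e4 : q ^ 4 % 4 = 0 := by
    have h1 : q % 4 = 0 ∨ q % 4 = 2 := by omega
    rcases h1 with h | h <;> simp [Nat.pow_mod, h]
  have hB : 1 < q ^ 4 + 1 := by
    have : 1 ≤ q ^ 4 := Nat.one_le_pow _ _ hq1
    omega
  exact jacNN (k := m) (B := q ^ 4 + 1) (by omega) (by omega) (T.dv hB (cop_six (by omega) (by omega)) ⟨x, hx⟩)

/-- **The rank.** -/
theorem ree_rank (H : Hyp e n k F L) (hω : H228.E3.SameOrd G L) (R : Red G K S) (hS : Lie.IsoRee ↥S) : n ≤ 10 := by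
  classical
  have hn := H.hn
  -- a prime for each class
  have hex : ∀ i : ℕ, ∃ r : ℕ, 4 ≤ i → r.Prime ∧ od e (2 ^ k) r = i := by
    intro i
    by_cases hi : 4 ≤ i
    · obtain ⟨r, hr, hr1⟩ := H.exists_od hi
      exact ⟨r, fun _ => ⟨hr, hr1⟩⟩
    · exact ⟨0, fun h => absurd h hi⟩
  choose ρ hρ using hex
  set A : Finset ℕ := (Finset.Icc (n / 2 + 1) n).image ρ with hA
  have hinj : Set.InjOn ρ (Finset.Icc (n / 2 + 1) n) := by
    intro i hi j hj hij
    rw [Finset.mem_coe, Finset.mem_Icc] at hi hj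
    have h1 := (hρ i (by omega)).2
    have h2 := (hρ j (by omega)).2
    rw [hij] at h1
    omega
  have hcard : A.card = n - n / 2 := by
    rw [hA, Finset.card_image_of_injOn hinj, Nat.card_Icc]
    omega
  have hAC : Coq5 L A := by
    refine H.coq ?_ ?_
    · intro r hr
      obtain ⟨i, hi, rfl⟩ := Finset.mem_image.1 hr
      rw [Finset.mem_Icc] at hi
      obtain ⟨h1, h2⟩ := hρ i (by omega)
      exact ⟨h1, by omega, by omega⟩
    · intro r hr s hs hrs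
      obtain ⟨i, hi, rfl⟩ := Finset.mem_image.1 hr
      obtain ⟨j, hj, rfl⟩ := Finset.mem_image.1 hs
      rw [Finset.mem_Icc] at hi hj
      rw [(hρ i (by omega)).2, (hρ j (by omega)).2] at hrs
      rw [hrs]
  have hAG : Coq5 G A := hAC.of_same hω
  obtain ⟨h1, h2⟩ := (redL_of_red R).filter hAG (by omega)
  have h3 := (H168.TwF4Cover.cover_ree hS).card_le (A.filter fun r => r ∣ Nat.card ↥S) (fun r hr => by
    have h5 := h1.2 r hr
    refine ⟨h1.1.prime r hr, by omega, fun hd => ?_, h1.1.dvd r hr⟩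
    have := Nat.le_of_dvd (by norm_num) hd
    omega) h1.1.nadj
  omega

/-- **Rank 6.** -/
theorem ree_six (H : Hyp e 6 k F L) (hω : H228.E3.SameOrd G L) (R : Red G K S) (T : ReeS m ↥S) : False := by
  have hk := H.hk
  have hq2 := H.q2
  have hqe := H.qe
  obtain ⟨i, j, hij, hc6, hc5⟩ := ree_pair H hω R T
  have hi : i = 2 ∨ i = 3 := hij.imp (fun h => h.1) (fun h => h.1)
  have hj : j = 2 ∨ j = 3 := (hij.imp (fun h => h.2) (fun h => h.2)).symm
  obtain ⟨X3, Y3, X2, Y2, -, hlt, hdif, hbig, hvu⟩ := twoN T.hk hij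
  obtain ⟨g, c, hg, hgc, hcls, hcA⟩ := exists_c5 e (q := 2 ^ k) (by omega)
  have hcY : c ∣ NN m j := hc5 c hcls hcA
  have hc3 : c % 3 = 1 := NN_mod hj hcY
  -- the residues
  have hP : (g = 1 ∧ 8 ≤ 2 ^ k) ∨ (g = 5 ∧ 80 ≤ 2 ^ k) := by
    have h5c : g = 1 → ¬ 5 ∣ c := by
      rintro - h5
      have h6 := hcls 5 (by norm_num) h5
      have h7 := od_lt (e := e) (q := 2 ^ k) (r := 5) (by norm_num) (by omega)
      omega
    rcases P5_mod (e := e) (k := k) with ⟨he, hk4, h⟩ | ⟨he, hk4, h⟩ | ⟨he, hk4, h⟩ | h | h <;> rw [← hgc] at h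
    · rcases hg with rfl | rfl
      · exfalso
        apply h5c rfl
        omega
      · have h4 : 4 ≤ k := by omega
        rcases (by omega : k = 4 ∨ 8 ≤ k) with rfl | h8
        · exfalso
          subst he
          have h6 : P5 (xv true (2 ^ 4)) = 69905 := by decide +kernel
          rw [h6] at hgc
          have h7 : c = 13981 := by omega
          have h8 : 11 % 3 = 1 := NN_mod (m := m) hj ((show 11 ∣ c by rw [h7]; norm_num).trans hcY)
          norm_num at h8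
        · refine Or.inr ⟨rfl, ?_⟩
          calc 80 ≤ 2 ^ 8 := by norm_num
            _ ≤ 2 ^ k := Nat.pow_le_pow_right (by norm_num) h8
    · rcases hg with rfl | rfl
      · refine Or.inl ⟨rfl, ?_⟩
        calc 8 ≤ 2 ^ 4 := by norm_num
          _ ≤ 2 ^ k := Nat.pow_le_pow_right (by norm_num) (by omega)
      · exfalso
        omega
    · rcases hg with rfl | rfl
      · refine Or.inl ⟨rfl, ?_⟩
        have := H.he he
        calc 8 = 2 ^ 3 := by norm_num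
          _ ≤ 2 ^ k := Nat.pow_le_pow_right (by norm_num) (by omega)
      · exfalso
        omega
    · exfalso
      rcases hg with rfl | rfl
      · exact h5c rfl (by omega)
      · omega
    · exfalso
      rcases hg with rfl | rfl
      · omega
      · omega
  -- the number of class 6
  obtain ⟨b, hb, hb1⟩ := H.exists_od (i := 6) (by norm_num)
  have hbX : b ∣ NN m i := hc6 b (fun r hr hd => by rw [(Nat.prime_dvd_prime_iff_eq hr hb).1 hd, hb1])
    (by have := dvd_AA_od (e := e) (k := k) (r := b); rwa [hb1] at this)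
  obtain ⟨y, hy⟩ := NN_mem hω T i
  have h1 := H.top_dvd hb hb1 (g := y) (by rw [hy]; exact hbX)
  rw [hy] at h1
  -- `W = q V + ε`
  obtain ⟨W, ε, hε, hW, hWA⟩ : ∃ (W : ℕ) (ε : ℤ), (ε = 1 ∨ ε = -1) ∧ (W : ℤ) = (2 ^ k : ℕ) * P5 (xv e (2 ^ k)) + ε ∧
      AA e 6 (2 ^ k) = W * AA e 1 (2 ^ k) := by
    have hq1 : 1 ≤ (2 ^ k) ^ 6 := Nat.one_le_pow _ _ (by omega)
    have hq0 : (1 : ℤ) ≤ ((2 ^ k : ℕ) : ℤ) := by exact_mod_cast (by omega : 1 ≤ 2 ^ k)
    have hV := P5_pos (xv e (2 ^ k))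
    have hqV : (1 : ℤ) ≤ ((2 ^ k : ℕ) : ℤ) * P5 (xv e (2 ^ k)) := by nlinarith
    cases e with
    | true =>
      refine ⟨(((2 ^ k : ℕ) : ℤ) * P5 (xv true (2 ^ k)) + 1).toNat, 1, Or.inl rfl, Int.toNat_of_nonneg (by omega), ?_⟩
      rw [← Int.natCast_inj, Nat.cast_mul, Int.toNat_of_nonneg (by omega)]
      have e1 : AA true 6 (2 ^ k) = (2 ^ k) ^ 6 - 1 := rfl
      have e2 : AA true 1 (2 ^ k) = (2 ^ k) ^ 1 - 1 := rfl
      have e3 : xv true (2 ^ k) = ((2 ^ k : ℕ) : ℤ) := rfl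
      rw [e1, e2, e3, Nat.cast_sub hq1, Nat.cast_sub (by rw [pow_one]; omega), P5]
      generalize (2 ^ k : ℕ) = q
      push_cast
      ring
    | false =>
      refine ⟨(((2 ^ k : ℕ) : ℤ) * P5 (xv false (2 ^ k)) + (-1)).toNat, -1, Or.inr rfl, Int.toNat_of_nonneg (by omega), ?_⟩
      rw [← Int.natCast_inj, Nat.cast_mul, Int.toNat_of_nonneg (by omega)]
      have e1 : AA false 6 (2 ^ k) = (2 ^ k) ^ 6 - 1 := rfl
      have e2 : AA false 1 (2 ^ k) = (2 ^ k) ^ 1 + 1 := rfl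
      have e3 : xv false (2 ^ k) = -((2 ^ k : ℕ) : ℤ) := rfl
      rw [e1, e2, e3, Nat.cast_sub hq1, P5]
      generalize (2 ^ k : ℕ) = q
      push_cast
      ring
  have hA1 : 0 < AA e 1 (2 ^ k) := AA_pos (e := e) hq2 (i := 1) le_rfl
  rw [hWA] at h1
  have h2 : NN m i * dd e 6 (2 ^ k) ∣ W := Nat.dvd_of_mul_dvd_mul_right hA1 h1
  obtain ⟨a, ha⟩ := h2
  obtain ⟨c', hc'⟩ := hcY
  have hX0 : 0 < NN m i := by omega
  have hY0 : 0 < NN m j := by omega
  set X := NN m i with hX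
  set Y := NN m j with hY
  set q := 2 ^ k with hq
  set V := P5 (xv e q) with hV
  have hVpos : 0 < V := P5_pos _
  have hq0 : (1 : ℤ) ≤ (q : ℤ) := by exact_mod_cast (by omega : 1 ≤ q)
  set A : ℤ := (dd e 6 q : ℤ) * a with hAdef
  have hAX : A * X = q * V + ε := by
    rw [← hW, ha]
    push_cast
    rw [hAdef]
    ring
  have hgY : (g : ℤ) * Y = c' * V := by
    rw [hc', ← hgc]
    push_cast
    ring
  have hqV : (2 : ℤ) ≤ q * V := by
    have : (2 : ℤ) ≤ q := by exact_mod_cast hq2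
    nlinarith
  have hA0 : 0 < A := by
    have h3 : 0 < A * X := by
      rw [hAX]
      rcases hε with rfl | rfl <;> omega
    by_contra hcon
    have h4 : A * X ≤ 0 := mul_nonpos_of_nonpos_of_nonneg (by omega) (by positivity)
    omega
  have hc0 : (0 : ℤ) < c' := by
    have : c' ≠ 0 := by
      rintro rfl
      rw [mul_zero] at hc'
      omega
    exact_mod_cast Nat.pos_of_ne_zero this
  -- parities
  have hqe' : (q : ℤ) % 2 = 0 := by
    have := Nat.even_iff.1 hqe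
    omega
  have hAodd : A % 2 = 1 := by
    have h3 : (A * X) % 2 = 1 := by
      rw [hAX]
      have h4 : ((q : ℤ) * V) % 2 = 0 := by rw [Int.mul_emod, hqe']; simp
      rcases hε with rfl | rfl <;> omega
    rcases Int.emod_two_eq_zero_or_one A with h4 | h4
    · rw [Int.mul_emod, h4] at h3
      simp at h3
    · exact h4
  have hcodd : (c' : ℤ) % 2 = 1 := by
    have h3 : ((g : ℤ) * Y) % 2 = 1 := by
      rw [Int.mul_emod]
      have h4 : (Y : ℤ) % 2 = 1 := by omega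
      rw [h4]
      rcases hg with rfl | rfl <;> rfl
    rw [hgY] at h3
    rcases Int.emod_two_eq_zero_or_one (c' : ℤ) with h4 | h4
    · rw [Int.mul_emod, h4] at h3
      simp at h3
    · exact h4
  have hodd : A * c' - g * q ≠ 0 := by
    intro h0
    have h3 : (A * c' - g * q) % 2 = 1 := by
      rw [Int.sub_emod, Int.mul_emod A, hAodd, hcodd, Int.mul_emod (g : ℤ), hqe']
      simp
    rw [h0] at h3
    norm_num at h3
  have hV11 : 2 * (g : ℤ) ≤ V := by
    have h3 := P5_ge (e := e) (q := q)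
    have h8 : (8 : ℤ) ≤ q := by
      rcases hP with ⟨-, h⟩ | ⟨-, h⟩
      · exact_mod_cast h
      · have : (80 : ℤ) ≤ q := by exact_mod_cast h
        linarith
    have hg5 : (g : ℤ) ≤ 5 := by rcases hg with rfl | rfl <;> norm_num
    have h9 : (8 : ℤ) * (q : ℤ) ^ 3 ≤ (q : ℤ) ^ 4 := by
      have : (q : ℤ) ^ 4 = q * (q : ℤ) ^ 3 := by ring
      rw [this]
      exact mul_le_mul_of_nonneg_right h8 (by positivity)
    have h10 : (8 : ℤ) * q ≤ (q : ℤ) ^ 2 := by nlinarith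
    have h11 : (1 : ℤ) ≤ (q : ℤ) ^ 3 := one_le_pow₀ hq0
    linarith
  have h3 := six_ineq (A := A) (X := X) (Y := Y) (c := c') (g := g) (V := V) (q := q) (ε := ε) (v := vv m) (u := uu m)
    hA0 (by exact_mod_cast hX0) (by exact_mod_cast hY0) hc0 (by rcases hg with rfl | rfl <;> norm_num) hV11 hq0 hε
    (by rw [vv]; positivity) hAX hgY hodd hdif (by exact_mod_cast vv_sq m) (by exact_mod_cast hvu)
    (by exact_mod_cast hbig) (by exact_mod_cast hlt)
  refine six_big (e := e) (q := q) (g := g) h3 ?_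
  rcases hP with ⟨rfl, h⟩ | ⟨rfl, h⟩
  · exact Or.inl ⟨by norm_num, h⟩
  · exact Or.inr ⟨by norm_num, h⟩

end Cfsg.Agent.R2.Spec.X6
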