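import Cfsg.Agent.R2.Spec.X6.Cyc
import Cfsg.Agent.H77.E4ReeF

/-!
# Arithmetic for the Ree groups (helper2, S3435, box X6)
-/

set_option autoImplicit false
set_option linter.unusedSectionVars false

namespace Cfsg.Agent.R2.Spec.X6

open Cfsg.Agent.H403 Cfsg.Agent.H403.NumTop Cfsg.Agent.H321.SpecEven
open Cfsg.Agent.H77.E4ReeA Cfsg.Agent.H77.E4ReeB Cfsg.Agent.H77.E4ReeC Cfsg.Agent.H77.E4ReeE

/-- divisors of a number whose primes are `1` mod 3 -/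
theorem mod_three_of_primes {M : ℕ} (h : ∀ p : ℕ, p.Prime → p ∣ M → p % 3 = 1) : ∀ d : ℕ, d ∣ M → M ≠ 0 → d % 3 = 1 := by
  intro d
  induction d using Nat.recOnMul with
  | zero => intro h0 hM; exact absurd (Nat.eq_zero_of_zero_dvd h0) hM
  | one => intro _ _; rfl
  | prime p hp => intro hd _; exact h p hp hd
  | mul a b iha ihb =>
    intro hd hM
    rw [Nat.mul_mod, iha ((dvd_mul_right _ _).trans hd) hM, ihb ((dvd_mul_left _ _).trans hd) hM]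

theorem uu_three (m : ℕ) : 3 ∣ uu m := by
  rw [uu, pow_succ]
  exact dvd_mul_left _ _

/-- the primes of `u ^ 2 - u + 1` -/
theorem prime_mod {m r : ℕ} (hr : r.Prime) (h : r ∣ uu m ^ 2 - uu m + 1) : r % 3 = 1 := by
  have := Fact.mk hr
  have h1 : uu m ≤ uu m ^ 2 := Nat.le_self_pow (by norm_num) _
  obtain ⟨t, ht⟩ := uu_three m
  have hr3 : r ≠ 3 := by
    rintro rfl
    have h2 : 3 ∣ uu m ^ 2 - uu m := by
      rw [ht, pow_two, mul_assoc]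
      exact Nat.dvd_sub (dvd_mul_right _ _) (dvd_mul_right _ _)
    have h3 := (Nat.dvd_add_right h2).1 h
    norm_num at h3
  have h0 : ((uu m ^ 2 - uu m + 1 : ℕ) : ZMod r) = 0 := (ZMod.natCast_eq_zero_iff _ _).2 h
  rw [Nat.cast_add, Nat.cast_sub h1] at h0
  push_cast at h0
  set x : ZMod r := ((uu m : ℕ) : ZMod r) with hx
  have h3 : (-x) ^ 3 = 1 := by linear_combination (-(x + 1)) * h0
  have hne : (-x) ≠ 1 := by
    intro h4
    have h5 : x = -1 := by linear_combination -h4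
    rw [h5] at h0
    have h6 : ((3 : ℕ) : ZMod r) = 0 := by push_cast; linear_combination h0
    rw [ZMod.natCast_eq_zero_iff] at h6
    exact hr3 ((Nat.prime_dvd_prime_iff_eq hr Nat.prime_three).1 h6)
  have : Fact (Nat.Prime 3) := ⟨Nat.prime_three⟩
  have h4 := order_dvd_pred hr (z := -x) (i := 3) (by norm_num) (orderOf_eq_prime h3 hne)
  have := hr.two_le
  omega

theorem mod_one {m c : ℕ} (h : c ∣ uu m ^ 2 - uu m + 1) : c % 3 = 1 :=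
  mod_three_of_primes (fun _ hp hd => prime_mod hp hd) c h (by omega)

theorem dvd_prod_of {m : ℕ} {i : Fin 4} (hi : i = 2 ∨ i = 3) : NN m i ∣ uu m ^ 2 - uu m + 1 := by
  rw [← prod_eq]
  rcases hi with rfl | rfl
  · exact dvd_mul_left _ _
  · exact dvd_mul_right _ _

theorem NN_mod {m c : ℕ} {i : Fin 4} (hi : i = 2 ∨ i = 3) (h : c ∣ NN m i) : c % 3 = 1 :=
  mod_one (h.trans (dvd_prod_of hi))

/-- the two numbers `u ± v + 1` -/
structure TwoN (m : ℕ) (X Y : ℕ) : Prop where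
  X3 : X % 3 = 1
  Y3 : Y % 3 = 1
  X2 : X % 2 = 1
  Y2 : Y % 2 = 1
  lt1 : X < 2 * Y
  lt2 : Y < 2 * X
  dif : (X : ℤ) - Y = 2 * vv m ∨ (X : ℤ) - Y = -(2 * vv m)
  big : uu m + 1 ≤ X + vv m
  vu : 3 * vv m ≤ uu m

theorem twoN {m : ℕ} (hm : 1 ≤ m) {i j : Fin 4} (h : (i = 2 ∧ j = 3) ∨ (i = 3 ∧ j = 2)) : TwoN m (NN m i) (NN m j) := by
  have h1 : 3 * vv m ≤ uu m := by
    rw [vv, uu, ← pow_succ']
    exact Nat.pow_le_pow_right (by norm_num) (by omega)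
  have h2 := vv_le m
  have hv : 0 < vv m := by rw [vv]; positivity
  have hvo : vv m % 2 = 1 := by
    have : Odd (vv m) := Odd.pow (by decide)
    exact Nat.odd_iff.1 this
  have huo : uu m % 2 = 1 := by
    have : Odd (uu m) := Odd.pow (by decide)
    exact Nat.odd_iff.1 this
  rcases h with ⟨rfl, rfl⟩ | ⟨rfl, rfl⟩
  · have e2 : NN m 2 = uu m - vv m + 1 := rfl
    have e3 : NN m 3 = uu m + vv m + 1 := rfl
    refine ⟨NN_mod (Or.inl rfl) dvd_rfl, NN_mod (Or.inr rfl) dvd_rfl, ?_, ?_, ?_, ?_, Or.inr ?_, ?_, h1⟩ <;>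
      (try rw [e2]) <;> (try rw [e3]) <;> omega
  · have e2 : NN m 2 = uu m - vv m + 1 := rfl
    have e3 : NN m 3 = uu m + vv m + 1 := rfl
    refine ⟨NN_mod (Or.inr rfl) dvd_rfl, NN_mod (Or.inl rfl) dvd_rfl, ?_, ?_, ?_, ?_, Or.inl ?_, ?_, h1⟩ <;>
      (try rw [e2]) <;> (try rw [e3]) <;> omega

/-! ### class 7 -/

/-- `Φ₇` -/
def P7 (x : ℤ) : ℤ := x ^ 6 + x ^ 5 + x ^ 4 + x ^ 3 + x ^ 2 + x + 1

theorem P7_mul (x : ℤ) : (x - 1) * P7 x = x ^ 7 - 1 := by unfold P7; ring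

theorem order_seven {r : ℕ} (hr : r.Prime) (hr7 : r ≠ 7) {x : ℤ} (h : (r : ℤ) ∣ P7 x) : orderOf ((x : ℤ) : ZMod r) = 7 := by
  have := Fact.mk hr
  have : Fact (Nat.Prime 7) := ⟨by norm_num⟩
  have h0 : ((P7 x : ℤ) : ZMod r) = 0 := (ZMod.intCast_zmod_eq_zero_iff_dvd _ _).2 h
  refine orderOf_eq_prime ?_ ?_
  · have h1 : (((x - 1) * P7 x : ℤ) : ZMod r) = 0 := by
      rw [Int.cast_mul, h0, mul_zero]
    rw [P7_mul] at h1
    push_cast at h1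
    exact sub_eq_zero.1 h1
  · intro h1
    have h2 : ((P7 x : ℤ) : ZMod r) = 7 := by
      unfold P7
      push_cast
      rw [h1]
      norm_num
    rw [h2] at h0
    have h3 : ((7 : ℕ) : ZMod r) = 0 := by exact_mod_cast h0
    rw [ZMod.natCast_eq_zero_iff] at h3
    exact hr7 ((Nat.prime_dvd_prime_iff_eq hr (by norm_num)).1 h3)

theorem not_49 (x : ℤ) : ¬ (49 : ℤ) ∣ P7 x := by
  intro h
  have h1 : ((P7 x : ℤ) : ZMod 49) = 0 := (ZMod.intCast_zmod_eq_zero_iff_dvd _ _).2 (by exact_mod_cast h)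
  unfold P7 at h1
  push_cast at h1
  generalize ((x : ℤ) : ZMod 49) = z at h1
  revert z
  decide +kernel

theorem seven_one {x : ℤ} (h : (7 : ℤ) ∣ P7 x) : (7 : ℤ) ∣ x - 1 := by
  have h1 : ((P7 x : ℤ) : ZMod 7) = 0 := (ZMod.intCast_zmod_eq_zero_iff_dvd _ _).2 (by exact_mod_cast h)
  have h2 : (((x - 1 : ℤ)) : ZMod 7) = 0 := by
    unfold P7 at h1
    push_cast at h1 ⊢
    generalize ((x : ℤ) : ZMod 7) = z at h1
    revert z
    decide +kernel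
  exact_mod_cast (ZMod.intCast_zmod_eq_zero_iff_dvd _ _).1 h2

theorem P7_pos (x : ℤ) : 0 < P7 x := by
  have h : 4 * P7 x = (2 * x ^ 3 + x ^ 2) ^ 2 + (2 * x + 1) ^ 2 + 3 + 4 * x ^ 3 + 3 * x ^ 4 := by unfold P7; ring
  have h2 : 0 ≤ (2 * x ^ 3 + x ^ 2) ^ 2 := sq_nonneg _
  have h3 : 0 ≤ 3 * x ^ 4 + 4 * x ^ 3 + (2 * x + 1) ^ 2 := by
    have : 3 * x ^ 4 + 4 * x ^ 3 + (2 * x + 1) ^ 2 = x ^ 2 * (3 * x ^ 2 + 4 * x + 2) + 2 * x ^ 2 + 4 * x + 1 := by ring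
    nlinarith [sq_nonneg (x ^ 2 + x), sq_nonneg (x + 1), sq_nonneg x, sq_nonneg (x ^ 2), sq_nonneg (2 * x + 1),
      sq_nonneg (x * (3 * x + 2)), sq_nonneg (x * (x + 1))]
  nlinarith

/-- the number of the class `7` -/
theorem exists_c7 (e : Bool) {q : ℕ} (hq : 1 ≤ q) : ∃ g c : ℕ, g ∣ 7 ∧ g ∣ AA e 1 q ∧ ((g : ℤ) * c = P7 (xv e q)) ∧
    (∀ r : ℕ, r.Prime → r ∣ c → od e q r = 7) ∧ c ∣ AA e 7 q := by
  set x := xv e q with hx
  obtain ⟨V, hV⟩ : ∃ V : ℕ, (V : ℤ) = P7 x := ⟨(P7 x).toNat, Int.toNat_of_nonneg (P7_pos x).le⟩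
  have hVA : V ∣ AA e 7 q := dvd_AA_of hq (by rw [hV, ← P7_mul]; exact dvd_mul_left _ _)
  by_cases h5 : 7 ∣ V
  · have h7 : (7 : ℤ) ∣ x - 1 := seven_one (by rw [← hV]; exact_mod_cast h5)
    obtain ⟨c, hc⟩ := h5
    refine ⟨7, c, dvd_rfl, dvd_AA_of hq (by rw [pow_one]; exact_mod_cast h7), by rw [← hV, hc]; push_cast; ring,
      fun r hr hrc => ?_, ?_⟩
    · refine order_seven hr ?_ ?_
      · rintro rfl
        obtain ⟨d, rfl⟩ := hrc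
        apply not_49 x
        rw [← hV, hc]
        exact ⟨d, by push_cast; ring⟩
      · rw [← hV, hc]
        exact_mod_cast hrc.mul_left 7
    · exact (Dvd.intro_left 7 hc.symm).trans hVA
  · refine ⟨1, V, one_dvd _, one_dvd _, by rw [← hV]; push_cast; ring, fun r hr hrc => ?_, hVA⟩
    refine order_seven hr ?_ ?_
    · rintro rfl
      exact h5 hrc
    · rw [← hV]
      exact_mod_cast hrc

/-- rank 7: the inequality -/
theorem seven_ineq {e : Bool} {q g c d X Y b : ℕ} (hq : 2 ≤ q) (hg : g ≤ d) (hd : 0 < d)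
    (hgc : (g : ℤ) * c = P7 (xv e q)) (hX : c ≤ X) (hY : Y * d * b = q ^ 6 - 1) (hb : 3 ≤ b) (hlt : X < 2 * Y) : False := by
  have h1 : (q : ℤ) ^ 6 - (q : ℤ) ^ 5 + (q : ℤ) ^ 4 - (q : ℤ) ^ 3 + (q : ℤ) ^ 2 - q + 1 ≤ P7 (xv e q) := by
    have h2 : (0 : ℤ) ≤ q := Int.natCast_nonneg q
    unfold xv P7
    split_ifs
    · have : (0 : ℤ) ≤ (q : ℤ) ^ 5 + (q : ℤ) ^ 3 + q := by positivity
      nlinarith
    · exact le_of_eq (by ring)
  have h2 : (3 : ℤ) * (Y * d) ≤ (q : ℤ) ^ 6 - 1 := by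
    have h3 : 3 * (Y * d) ≤ q ^ 6 - 1 := by
      rw [← hY, mul_comm 3]
      exact Nat.mul_le_mul_left _ hb
    have h4 : 1 ≤ q ^ 6 := Nat.one_le_pow _ _ (by omega)
    have h5 := Int.ofNat_le.2 h3
    push_cast [h4] at h5
    exact h5
  have h3 : P7 (xv e q) ≤ (d : ℤ) * X := by
    rw [← hgc]
    have : g * c ≤ d * X := Nat.mul_le_mul hg hX
    exact_mod_cast this
  have h4 : (d : ℤ) * X < 2 * (Y * d) := by
    have : d * X < d * (2 * Y) := Nat.mul_lt_mul_of_pos_left hlt hd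
    have h5 : ((d * X : ℕ) : ℤ) < ((d * (2 * Y) : ℕ) : ℤ) := by exact_mod_cast this
    push_cast at h5
    linarith
  have h5 : (2 : ℤ) ≤ q := by exact_mod_cast hq
  have h6 : 3 * ((q : ℤ) ^ 6 - (q : ℤ) ^ 5 + (q : ℤ) ^ 4 - (q : ℤ) ^ 3 + (q : ℤ) ^ 2 - q + 1) < 2 * ((q : ℤ) ^ 6 - 1) := by
    linarith
  obtain ⟨t, rfl⟩ : ∃ t : ℕ, q = 2 + t := ⟨q - 2, by omega⟩
  push_cast at h6
  have h7 : (0 : ℤ) ≤ 3 * ((2 + (t : ℤ)) ^ 6 - (2 + (t : ℤ)) ^ 5 + (2 + (t : ℤ)) ^ 4 - (2 + (t : ℤ)) ^ 3 + (2 + (t : ℤ)) ^ 2 -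
      (2 + (t : ℤ)) + 1) - 2 * ((2 + (t : ℤ)) ^ 6 - 1) := by
    ring_nf
    positivity
  linarith

/-! ### rank 6 -/

/-- the inequality -/
theorem six_ineq {A X Y c g V q ε v u : ℤ} (hA : 0 < A) (hX : 0 < X) (hY : 0 < Y) (hc : 0 < c) (hg : 1 ≤ g)
    (hV : 2 * g ≤ V) (hq : 1 ≤ q) (hε : ε = 1 ∨ ε = -1) (hv : 0 < v) (h1 : A * X = q * V + ε) (h2 : g * Y = c * V)
    (hodd : A * c - g * q ≠ 0) (hd : X - Y = 2 * v ∨ X - Y = -(2 * v)) (hvu : v ^ 2 = 3 * u) (h3v : 3 * v ≤ u)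
    (hu : u + 1 ≤ X + v) (hlt : Y < 2 * X) : V ≤ 36 * g ^ 3 * q ^ 2 + 2 * g := by
  have hV0 : 0 < V := by linarith
  have hε1 : ε ≤ 1 := by rcases hε with rfl | rfl <;> norm_num
  have key : V * (A * c - g * q) = g * ε - g * A * (X - Y) := by linear_combination -A * h2 + g * h1
  have b1 : V ≤ g * (2 * (A * v) + 1) := by
    have hAv : 0 < A * v := mul_pos hA hv
    have h3 : |V * (A * c - g * q)| ≤ g * (2 * (A * v) + 1) := by
      rw [key, abs_le]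
      rcases hε with rfl | rfl <;> rcases hd with h | h <;> rw [h] <;> constructor <;> nlinarith
    rw [abs_mul, abs_of_pos hV0] at h3
    have h4 : 1 ≤ |A * c - g * q| := Int.one_le_abs hodd
    nlinarith
  -- the bound for `A`
  have b2 : A ≤ 2 * g * q := by
    have h3 : V ≤ g * Y := by rw [h2]; nlinarith
    have h4 : g * Y < g * (2 * X) := by nlinarith
    have h5 : A * V < 2 * g * (q * V + ε) := by
      rw [← h1]
      have : A * V < A * (g * (2 * X)) := mul_lt_mul_of_pos_left (by linarith) hA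
      linarith
    by_contra hcon
    have h6 : 2 * g * q + 1 ≤ A := by omega
    have h7 : (2 * g * q + 1) * V ≤ A * V := mul_le_mul_of_nonneg_right h6 hV0.le
    nlinarith
  have b3 : (A * v) ^ 2 ≤ 9 * g * q ^ 2 * V := by
    have h3 : 2 * u ≤ 3 * (X - 1) := by linarith
    have h4 : 2 * (A * v) ^ 2 ≤ 9 * A * (A * X - A) := by
      have h5 : 2 * (A * v) ^ 2 = 3 * A ^ 2 * (2 * u) := by rw [mul_pow, hvu]; ring
      rw [h5]
      have h6 : 3 * A ^ 2 * (2 * u) ≤ 3 * A ^ 2 * (3 * (X - 1)) := mul_le_mul_of_nonneg_left h3 (by positivity)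
      linarith
    have h5 : A * X - A ≤ q * V := by rw [h1]; linarith
    have h6 : 9 * A * (A * X - A) ≤ 9 * A * (q * V) := mul_le_mul_of_nonneg_left h5 (by positivity)
    have h7 : 9 * A * (q * V) ≤ 9 * (2 * g * q) * (q * V) :=
      mul_le_mul_of_nonneg_right (by linarith) (mul_nonneg (by linarith) hV0.le)
    nlinarith
  -- conclusion
  have h3 : V - g ≤ 2 * g * (A * v) := by linarith
  have h4 : (V - g) ^ 2 ≤ (2 * g * (A * v)) ^ 2 := pow_le_pow_left₀ (by linarith) h3 2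
  have h5 : (2 * g * (A * v)) ^ 2 ≤ 36 * g ^ 3 * q ^ 2 * V := by
    have : 4 * g ^ 2 * (A * v) ^ 2 ≤ 4 * g ^ 2 * (9 * g * q ^ 2 * V) := mul_le_mul_of_nonneg_left b3 (by positivity)
    nlinarith
  by_contra hcon
  have h6 : 36 * g ^ 3 * q ^ 2 + 2 * g + 1 ≤ V := by omega
  have h7 : (36 * g ^ 3 * q ^ 2 + 2 * g + 1) * V ≤ V * V := mul_le_mul_of_nonneg_right h6 hV0.le
  nlinarith

theorem P5_ge {e : Bool} {q : ℕ} : (q : ℤ) ^ 4 - (q : ℤ) ^ 3 + (q : ℤ) ^ 2 - q + 1 ≤ P5 (xv e q) := by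
  have h2 : (0 : ℤ) ≤ q := Int.natCast_nonneg q
  unfold xv P5
  split_ifs
  · have : (0 : ℤ) ≤ (q : ℤ) ^ 3 + q := by positivity
    nlinarith
  · exact le_of_eq (by ring)

/-- large `q` -/
theorem six_big {e : Bool} {q : ℕ} {g : ℤ} (h : P5 (xv e q) ≤ 36 * g ^ 3 * (q : ℤ) ^ 2 + 2 * g)
    (hc : (g = 1 ∧ 8 ≤ q) ∨ (g = 5 ∧ 80 ≤ q)) : False := by
  have h1 := P5_ge (e := e) (q := q)
  rcases hc with ⟨rfl, hq⟩ | ⟨rfl, hq⟩
  · obtain ⟨t, rfl⟩ : ∃ t : ℕ, q = 8 + t := ⟨q - 8, by omega⟩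
    push_cast at h h1
    have h7 : (0 : ℤ) < ((8 + (t : ℤ)) ^ 4 - (8 + (t : ℤ)) ^ 3 + (8 + (t : ℤ)) ^ 2 - (8 + (t : ℤ)) + 1) -
        (36 * 1 ^ 3 * (8 + (t : ℤ)) ^ 2 + 2 * 1) := by
      ring_nf
      positivity
    linarith
  · obtain ⟨t, rfl⟩ : ∃ t : ℕ, q = 80 + t := ⟨q - 80, by omega⟩
    push_cast at h h1
    have h7 : (0 : ℤ) < ((80 + (t : ℤ)) ^ 4 - (80 + (t : ℤ)) ^ 3 + (80 + (t : ℤ)) ^ 2 - (80 + (t : ℤ)) + 1) -
        (36 * 5 ^ 3 * (80 + (t : ℤ)) ^ 2 + 2 * 5) := by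
      ring_nf
      positivity
    linarith

/-- `Φ₅(± q)` mod 15 -/
theorem P5_mod {e : Bool} {k : ℕ} : (e = true ∧ k % 4 = 0 ∧ P5 (xv e (2 ^ k)) % 15 = 5) ∨
    (e = false ∧ k % 4 = 0 ∧ P5 (xv e (2 ^ k)) % 15 = 1) ∨ (e = true ∧ k % 2 = 1 ∧ P5 (xv e (2 ^ k)) % 15 = 1) ∨
    (P5 (xv e (2 ^ k)) % 15 = 10) ∨ (P5 (xv e (2 ^ k)) % 15 = 11) := by
  have key : ∀ a : ℤ, P5 a % 15 = P5 (a % 15) % 15 := by
    intro a
    have h1 : a ≡ a % 15 [ZMOD 15] := (Int.mod_modEq a 15).symm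
    have h2 : P5 a ≡ P5 (a % 15) [ZMOD 15] := by
      unfold P5
      exact ((((h1.pow 4).add (h1.pow 3)).add (h1.pow 2)).add h1).add rfl
    exact h2
  rw [key]
  have h3 := q_res k
  cases e with
  | true =>
    have hx : xv true (2 ^ k) % 15 = ((2 ^ k % 15 : ℕ) : ℤ) := by
      rw [Int.natCast_mod]
      rfl
    rw [hx]
    rcases h3 with ⟨h, h4⟩ | ⟨h, h4⟩ | ⟨h, h4⟩ | ⟨h, h4⟩ <;> rw [h4]
    · exact Or.inl ⟨rfl, h, by decide⟩
    · exact Or.inr (Or.inr (Or.inl ⟨rfl, by omega, by decide⟩))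
    · exact Or.inr (Or.inr (Or.inr (Or.inr (by decide))))
    · exact Or.inr (Or.inr (Or.inl ⟨rfl, by omega, by decide⟩))
  | false =>
    have hx : xv false (2 ^ k) % 15 = (-((2 ^ k % 15 : ℕ) : ℤ)) % 15 := by
      show (-((2 ^ k : ℕ) : ℤ)) % 15 = _
      omega
    rw [hx]
    rcases h3 with ⟨h, h4⟩ | ⟨h, h4⟩ | ⟨h, h4⟩ | ⟨h, h4⟩ <;> rw [h4]
    · exact Or.inr (Or.inl ⟨rfl, h, by decide⟩)
    · exact Or.inr (Or.inr (Or.inr (Or.inr (by decide))))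
    · exact Or.inr (Or.inr (Or.inr (Or.inl (by decide))))
    · exact Or.inr (Or.inr (Or.inr (Or.inr (by decide))))

end Cfsg.Agent.R2.Spec.X6
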