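import Cfsg.Agent.R2.Spec.X6.Good
import Cfsg.Agent.R2.Spec.X6.LDat
import Cfsg.Agent.R2.Spec.X6.Frame
import Cfsg.Agent.R2.Spec.X6.MovTwo

/-!
# `n = 6` : the classical groups of odd characteristic, not `L₂` (helper2, S3435, box X6)

* `six_sdat` : `S` has `SDat S p` and is not `L₂`.
-/

set_option autoImplicit false
set_option linter.unusedSectionVars false

namespace Cfsg.Agent.R2.Spec.X6

open Subgroup Cfsg Cfsg.Agent.H403 Cfsg.Agent.H403.NumTop Cfsg.Agent.H321.SpecEven
open Cfsg.Agent.H228.E3 Cfsg.Agent.H200.STwo.E3Glue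
open Cfsg.Agent.H420.QR (Red)
open Cfsg.Agent.H426.LieFam (Fam)
open Cfsg.Agent.H356 (TwoSep)
open Cfsg.Agent.H425.KStep (Mov)

universe u v w

variable {F : Type w} [Field F] [Fintype F] {e : Bool} {n k : ℕ} {L : Type v} [Group L] [Finite L]
  {G : Type u} [Group G] [Finite G] {K : Subgroup G} [K.Normal] {S : Subgroup (G ⧸ K)} [S.Normal]

/-- the primes of the classes `n`, `n - 1` form a `TwoSep` of `S` -/
theorem twoSep (H : Hyp e n k F L) (hω : H228.E3.SameOrd G L) (R : Red G K S) {r s : ℕ} (hr : r.Prime) (hs : s.Prime)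
    (hr1 : od e (2 ^ k) r = n) (hs1 : od e (2 ^ k) s = n - 1) : TwoSep ↥S r s := by
  have hn := H.hn
  obtain ⟨w, hw, hw1⟩ := H.exists_od (i := n - 2) (by omega)
  obtain ⟨hA, -⟩ := H.coq_top hr hs hw hr1 hs1 hw1
  have hne : r ≠ s := by rintro rfl; omega
  exact
    { pr := hr
      ps := hs
      r2 := H.ne_two (by omega)
      s2 := H.ne_two (by omega)
      ne := hne
      dr := (good H hω R hr (Or.inl hr1)).1
      ds := (good H hω R hs (Or.inr hs1)).1
      far_r := fun h => H.far hr (Or.inl hr1) (mem_L hω h)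
      far_s := fun h => H.far hs (Or.inr hs1) (mem_L hω h)
      sep := fun h => hA.1.nadj r (by simp) s (by simp) hne (mem_L hω h) }

theorem big_num_four {k : ℕ} (hk : 1 ≤ k) : 4 * (3 * (2 ^ k) ^ 6) + 4 ≤ 9 ^ (k * 4 + 1) := by
  have h1 : (2 ^ k) ^ 6 = 64 ^ k := by rw [← pow_mul, mul_comm, pow_mul]; norm_num
  have h2 : 9 ^ (k * 4 + 1) = 9 * 6561 ^ k := by
    rw [pow_succ, mul_comm k 4, pow_mul, mul_comm]
    norm_num
  rw [h1, h2]
  have h4 : 1 ≤ 64 ^ k := Nat.one_le_pow _ _ (by norm_num)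
  have h5 : 102 * 64 ^ k ≤ 6561 ^ k := by
    calc 102 * 64 ^ k = 102 ^ 1 * 64 ^ k := by rw [pow_one]
      _ ≤ 102 ^ k * 64 ^ k := Nat.mul_le_mul_right _ (Nat.pow_le_pow_right (by norm_num) hk)
      _ = (102 * 64) ^ k := (mul_pow _ _ _).symm
      _ ≤ 6561 ^ k := Nat.pow_le_pow_left (by norm_num) k
  omega

theorem six_sdat (H : Hyp e 6 k F L) (hω : H228.E3.SameOrd G L) (R : Red G K S) {p f : ℕ} (hp : p.Prime) (hp2 : p ≠ 2)
    {t : Fam} (ht : Cla t) (hI : Fam.Is p f S t) (hL2 : t ≠ .psl 2) (hS : SDat S p) : False := by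
  have hk := H.hk
  obtain ⟨r, hr, hr1⟩ := H.exists_od (i := 6) (by omega)
  obtain ⟨s, hs, hs1⟩ := H.exists_od (i := 5) (by omega)
  obtain ⟨w, hw, hw1, hw2⟩ := H.exists_big (i := 4) (by omega)
  obtain ⟨hA, hA3⟩ := H.coq_top hr hs hw hr1 (by omega) (by omega)
  have hAG := hA.of_same hω
  have hR := redL_of_red R
  have hrs : r ≠ s := by rintro rfl; omega
  have hrw : r ≠ w := by rintro rfl; omega
  have hsw : s ≠ w := by rintro rfl; omega
  have hgr := good H hω R hr (Or.inl hr1)
  have hgs := good H hω R hs (Or.inr (by omega))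
  by_cases hwS : w ∣ Nat.card S
  · have h1 : Coq5 S {r, s, w} := RedL.coqS hAG (by
      intro x hx
      simp only [Finset.mem_insert, Finset.mem_singleton] at hx
      rcases hx with rfl | rfl | rfl
      · exact hgr.1
      · exact hgs.1
      · exact hwS)
    have h2 := hS.far _ h1 (by
      intro a ha hx
      have hx' := mem_L hω hx
      simp only [Finset.mem_insert, Finset.mem_singleton] at ha
      rcases ha with rfl | rfl | rfl
      · exact H.four hr (by omega) (by omega) hx'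
      · exact H.four hs (by omega) (by omega) hx'
      · exact H.four hw (by omega) (by omega) hx')
    omega
  · obtain ⟨-, -, h5⟩ := hR.miss hAG hA3.ge (r := w) (by simp) hwS
    rcases h5 with h5 | h5
    · have hT := twoSep H hω R hr hs hr1 (by omega)
      obtain ⟨hrp, hsp, hM⟩ := mov_two hp hp2 ht hI hL2 hT (hA.2 r (by simp)) (hA.2 s (by simp))
      have hpS : p ∣ Nat.card S := by
        obtain ⟨V, hV, hc⟩ := hS.ncyc
        have := Fact.mk hp
        obtain ⟨j, hj⟩ := (IsPGroup.iff_card (p := p)).1 hV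
        have hj0 : j ≠ 0 := by
          rintro rfl
          apply hc
          rw [pow_zero, Subgroup.card_eq_one] at hj
          rw [hj]
          infer_instance
        exact ((dvd_pow_self p hj0).trans (hj ▸ dvd_rfl)).trans (Subgroup.card_subgroup_dvd_card V)
      have hpw : p ≠ w := by
        rintro rfl
        exact hwS hpS
      have := R.simple
      rcases hM with hM | hM
      · exact Cfsg.Agent.H425.KStep.mov_false K hp hr hw hp2 hT.r2 hpw hrp.symm hrw h5 hgr.2.1 S hM
          (hAG.1.nadj r (by simp) w (by simp) hrw)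
      · exact Cfsg.Agent.H425.KStep.mov_false K hp hs hw hp2 hT.s2 hpw hsp.symm hsw h5 hgs.2.1 S hM
          (hAG.1.nadj s (by simp) w (by simp) hsw)
    · obtain ⟨x, hx⟩ := hS.out w hw (hA.2 w (by simp)) hwS h5
      obtain ⟨y, hy⟩ := mem_L hω ⟨x, rfl⟩
      have h6 := H.ord_le y
      rw [hy] at h6
      have h7 : 9 ^ (k * 4 + 1) ≤ 9 ^ w := Nat.pow_le_pow_right (by norm_num) (by cases e <;> simpa [nu] using hw2)
      have h8 := big_num_four hk
      omega

end Cfsg.Agent.R2.Spec.X6
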