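import Cfsg.Agent.R2.Spec.X6.SixCl
import Cfsg.Agent.R2.Spec.X6.NumL2
import Cfsg.Agent.H228.E3L2

/-!
# `n = 6` : `S` is not `L₂(u)`, `u` odd (helper2, S3435, box X6)
-/

set_option autoImplicit false
set_option linter.unusedSectionVars false

namespace Cfsg.Agent.R2.Spec.X6

open Subgroup Cfsg Cfsg.Agent.H403 Cfsg.Agent.H403.NumTop Cfsg.Agent.H321.SpecEven
open Cfsg.Agent.H228.E3 Cfsg.Agent.H200.STwo.E3Glue
open Cfsg.Agent.H420.QR (Red)
open Cfsg.Agent.H425.KStep (Mov exists_adj)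

universe u v w

theorem Hyp.qx {F : Type w} [Field F] [Fintype F] {e : Bool} {n k : ℕ} {L : Type v} [Group L] (H : Hyp e n k F L) :
    QX (2 ^ k) (xv e (2 ^ k)) := by
  have hk := H.hk
  have h2 : 2 ^ 1 ≤ 2 ^ k := Nat.pow_le_pow_right (by norm_num) hk
  refine ⟨?_, ?_, by omega, ?_, ?_⟩
  · cases e
    · right; simp [xv]
    · left; simp [xv]
  · obtain ⟨j, rfl⟩ : ∃ j, k = j + 1 := ⟨k - 1, by omega⟩
    rw [pow_succ]
    omega
  · rcases (by omega : k = 1 ∨ k = 2 ∨ 3 ≤ k) with rfl | rfl | h3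
    · norm_num
    · norm_num
    · have : 2 ^ 3 ≤ 2 ^ k := Nat.pow_le_pow_right (by norm_num) h3
      omega
  · cases e with
    | false =>
      simp only [xv, Bool.false_eq_true, if_false]
      have : (0 : ℤ) < ((2 ^ k : ℕ) : ℤ) := by positivity
      omega
    | true =>
      have h3 : 2 ^ 2 ≤ 2 ^ k := Nat.pow_le_pow_right (by norm_num) (H.he rfl)
      simp only [xv, if_true]
      omega

section

variable {F : Type w} [Field F] [Fintype F] {e : Bool} {k : ℕ} {L : Type v} [Group L] [Finite L]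
  {G : Type u} [Group G] [Finite G] {K : Subgroup G} [K.Normal] {S : Subgroup (G ⧸ K)} [S.Normal]

/-- the spectrum of `S` -/
structure Sp (S : Type u) [Group S] (p f : ℕ) (ε : ℤ) (N0 N1 : ℕ) : Prop where
  hε : ε = 1 ∨ ε = -1
  h0 : ((p ^ f : ℕ) : ℤ) = 2 * N0 + ε
  h1 : ((p ^ f : ℕ) : ℤ) = 2 * N1 - ε
  he : N0 % 2 = 0
  mem : ∀ m : ℕ, (∃ x : S, orderOf x = m) ↔ m ∣ p ∨ m ∣ N0 ∨ m ∣ N1

theorem exists_sp {E : Type} [Field E] [Fintype E] {p f : ℕ} [CharP E p] (hp : p.Prime) (hp2 : p ≠ 2)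
    (hE : Fintype.card E = p ^ f) (h4 : 4 ≤ Fintype.card E) {S : Type u} [Group S]
    (φ : S ≃* Matrix.ProjectiveSpecialLinearGroup (Fin 2) E) : ∃ (ε : ℤ) (N0 N1 : ℕ), Sp S p f ε N0 N1 := by
  have mem := fun m => (Cfsg.Agent.H228.E3.ord_congr φ (n := m)).trans (mem_l2 hp hp2 hE h4 m)
  have hodd : p ^ f % 2 = 1 := Nat.odd_iff.1 ((hp.odd_of_ne_two hp2).pow)
  rcases (by omega : p ^ f % 4 = 1 ∨ p ^ f % 4 = 3) with h | h
  · exact ⟨1, (p ^ f - 1) / 2, (p ^ f + 1) / 2, Or.inl rfl, by omega, by omega, by omega, mem⟩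
  · refine ⟨-1, (p ^ f + 1) / 2, (p ^ f - 1) / 2, Or.inr rfl, by omega, by omega, by omega, fun m => (mem m).trans ?_⟩
    tauto

/-- primes of the class `5` or `6` do not divide the even half -/
theorem not_N0 (H : Hyp e 6 k F L) (hω : H228.E3.SameOrd G L) {p f N0 N1 : ℕ} {ε : ℤ} (P : Sp ↥S p f ε N0 N1) {r : ℕ}
    (hr : r.Prime) (hi : od e (2 ^ k) r = 6 ∨ od e (2 ^ k) r = 6 - 1) : ¬ r ∣ N0 := by
  intro h
  refine H.far hr hi (mem_L hω ((P.mem _).2 (Or.inr (Or.inl ?_))))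
  exact Nat.Coprime.mul_dvd_of_dvd_of_dvd ((Nat.coprime_primes Nat.prime_two hr).2 (H.ne_two (by omega)).symm)
    (Nat.dvd_of_mod_eq_zero P.he) h

/-- two nonadjacent primes do not both divide the odd half -/
theorem not_N1 (hω : H228.E3.SameOrd G L) {p f N0 N1 : ℕ} {ε : ℤ} (P : Sp ↥S p f ε N0 N1) {r s : ℕ}
    (hr : r.Prime) (hs : s.Prime) (hne : r ≠ s) (h : ¬ ∃ g : L, orderOf g = r * s) (h1 : r ∣ N1) : ¬ s ∣ N1 := fun h2 =>
  h (mem_L hω ((P.mem _).2 (Or.inr (Or.inr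
    (Nat.Coprime.mul_dvd_of_dvd_of_dvd ((Nat.coprime_primes hr hs).2 hne) h1 h2)))))

theorem not_dvd_six {i j : ℕ} (hi : i = 4 ∨ i = 5 ∨ i = 6) (hj : j = 4 ∨ j = 5 ∨ j = 6) (h : i ≠ j) : ¬ i ∣ j := by
  rcases hi with rfl | rfl | rfl <;> rcases hj with rfl | rfl | rfl <;> first | exact absurd rfl h | decide

theorem nadj_six (H : Hyp e 6 k F L) {r s : ℕ} (hr : r.Prime) (hs : s.Prime)
    (hi : od e (2 ^ k) r = 4 ∨ od e (2 ^ k) r = 5 ∨ od e (2 ^ k) r = 6)
    (hj : od e (2 ^ k) s = 4 ∨ od e (2 ^ k) s = 5 ∨ od e (2 ^ k) s = 6) (h : od e (2 ^ k) r ≠ od e (2 ^ k) s) :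
    ¬ ∃ g : L, orderOf g = r * s :=
  H.nadj hr hs (by omega) (by omega) (by omega) (not_dvd_six hi hj h) (not_dvd_six hj hi h.symm)

/-- `p` divides `|S|` -/
theorem Sp.dvd {S : Type u} [Group S] [Finite S] {p f N0 N1 : ℕ} {ε : ℤ} (P : Sp S p f ε N0 N1) : p ∣ Nat.card S := by
  obtain ⟨x, hx⟩ := (P.mem p).2 (Or.inl dvd_rfl)
  rw [← hx]
  exact orderOf_dvd_natCard x

section

variable {E : Type} [Field E] [Fintype E] {p f : ℕ} [CharP E p]

/-- primes of the class `4` dividing `|K|` -/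
theorem case_K (H : Hyp e 6 k F L) (hω : H228.E3.SameOrd G L) (R : Red G K S) (hp : p.Prime) (hp2 : p ≠ 2) (hf : 1 ≤ f)
    (hE : Fintype.card E = p ^ f) (φ : S ≃* Matrix.ProjectiveSpecialLinearGroup (Fin 2) E) {N0 N1 : ℕ} {ε : ℤ}
    (P : Sp ↥S p f ε N0 N1) (hpi : od e (2 ^ k) p = 5 ∨ od e (2 ^ k) p = 6) {w : ℕ} (hw : w.Prime)
    (hwi : od e (2 ^ k) w = 5 ∨ od e (2 ^ k) w = 6) (hne : od e (2 ^ k) p ≠ od e (2 ^ k) w) (hwN : w ∣ N1) {r : ℕ}
    (hr : r.Prime) (hri : od e (2 ^ k) r = 4) (hrK : r ∣ Nat.card K) : f = 1 ∧ ε = 1 := by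
  have hpr : p ≠ r := by rintro rfl; omega
  have hpw : p ≠ w := by rintro rfl; omega
  have hwr : w ≠ r := by rintro rfl; omega
  have hsimp := R.simple
  have hG : ∀ {m : ℕ}, (¬ ∃ g : L, orderOf g = m) → ¬ ∃ g : G, orderOf g = m := fun h h1 => h ((hω _).1 h1)
  constructor
  · by_contra hf1
    obtain ⟨V, hV, hc⟩ := ncyc_l2 hp hp2 (show 2 ≤ f by omega) hE
    refine hG (nadj_six H hp hr (Or.inr hpi) (Or.inl hri) (by omega))
      (RedL.ncyc (G := G) (K := K) (S := S) hp hp2 ?_ hr hpr hrK)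
    refine ⟨V.map φ.symm.toMonoidHom, hV.map _, fun h1 => hc ?_⟩
    exact isCyclic_of_injective (V.equivMapOfInjective φ.symm.toMonoidHom φ.symm.injective).toMonoidHom
      (V.equivMapOfInjective φ.symm.toMonoidHom φ.symm.injective).injective
  · rcases P.hε with h | h
    · exact h
    · exfalso
      have h1 := P.h1
      rw [h] at h1
      have h2 : p ^ f - 1 = 2 * N1 := by omega
      have h3 : w ∣ Fintype.card E - 1 := by
        rw [hE, h2]
        exact hwN.mul_left 2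
      exact Cfsg.Agent.H425.KStep.mov_false K hp hw hr hp2 (H.ne_two (by omega)) hpr hpw hwr hrK
        (good H hω R hw (by omega)).2.1 S ((Mov.congr φ).2 (mov_l2 hp hp2 hw (H.ne_two (by omega)) h3))
        (hG (nadj_six H hw hr (Or.inr hwi) (Or.inl hri) (by omega)))

/-- primes of the class `4` dividing `|G / K : S|` -/
theorem case_out (R : Red G K S) (hp : p.Prime) (hf : 1 ≤ f)
    (hE : Fintype.card E = p ^ f) (h4 : 4 ≤ Fintype.card E)
    (φ : S ≃* Matrix.ProjectiveSpecialLinearGroup (Fin 2) E) {r : ℕ} (hr : r.Prime) (hr2 : r ≠ 2)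
    (h : r ∣ S.index) : r ∣ f := by
  have hsimp := R.simple
  have hZS := center_bot R.nonab
  have h2 : r ∣ Nat.card (Cfsg.Out S) := h.trans (index_dvd_out inferInstance R.cent hZS)
  have hZ : Subgroup.center (Matrix.ProjectiveSpecialLinearGroup (Fin 2) E) = ⊥ := by
    rw [eq_bot_iff]
    intro z hz
    have h5 : φ.symm z ∈ Subgroup.center S := by
      rw [mem_center_iff]
      intro g
      have h6 := (mem_center_iff.1 hz) (φ g)
      apply φ.injective
      rw [map_mul, map_mul, MulEquiv.apply_symm_apply, h6]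
    rw [hZS, Subgroup.mem_bot] at h5
    rw [Subgroup.mem_bot, ← φ.apply_symm_apply z, h5, map_one]
  rw [Cfsg.Agent.H934.OutB.card_out_congr φ, Cfsg.Agent.H163.PG.card_out_psl_two hp hf hE h4 hZ] at h2
  rcases hr.dvd_mul.1 h2 with h | h
  · exact h
  · exact absurd ((Nat.prime_dvd_prime_iff_eq hr Nat.prime_two).1 (h.trans (Nat.gcd_dvd_left _ _))) hr2

/-- the end: `U₆(4)`, `L₂(41)` -/
theorem kill_41 (H : Hyp e 6 k F L) (hω : H228.E3.SameOrd G L) (R : Red G K S) {N0 N1 : ℕ} {ε : ℤ}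
    (P : Sp ↥S 41 1 ε N0 N1) (hx : xv e (2 ^ k) = -4) (hp5 : od e (2 ^ k) 41 = 5) : False := by
  have h13 : od e (2 ^ k) 13 = 3 := by
    show orderOf ((xv e (2 ^ k) : ℤ) : ZMod 13) = 3
    rw [hx]
    have : Fact (Nat.Prime 3) := ⟨Nat.prime_three⟩
    exact orderOf_eq_prime (by decide) (by decide)
  have h17 : od e (2 ^ k) 17 = 4 := by
    show orderOf ((xv e (2 ^ k) : ℤ) : ZMod 17) = 4
    rw [hx]
    have : Fact (Nat.Prime 2) := ⟨Nat.prime_two⟩
    have h1 : orderOf ((((-4 : ℤ)) : ZMod 17)) = 2 ^ (1 + 1) := orderOf_eq_prime_pow (by decide) (by decide)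
    simpa using h1
  have p41 : Nat.Prime 41 := by norm_num
  have p13 : Nat.Prime 13 := by norm_num
  have p17 : Nat.Prime 17 := by norm_num
  have a1 : ¬ ∃ g : L, orderOf g = 41 * 13 :=
    H.nadj p41 p13 (by omega) (by omega) (by omega) (by rw [hp5, h13]; norm_num) (by rw [hp5, h13]; norm_num)
  have a2 : ¬ ∃ g : L, orderOf g = 41 * 17 :=
    H.nadj p41 p17 (by omega) (by omega) (by omega) (by rw [hp5, h17]; norm_num) (by rw [hp5, h17]; norm_num)
  have a3 : ¬ ∃ g : L, orderOf g = 13 * 17 :=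
    H.nadj p13 p17 (by omega) (by omega) (by omega) (by rw [h13, h17]; norm_num) (by rw [h13, h17]; norm_num)
  have hC : Coq5 L {41, 13, 17} := by
    refine ⟨⟨?_, ?_, ?_, ?_⟩, ?_⟩
    · intro r hr
      simp only [Finset.mem_insert, Finset.mem_singleton] at hr
      rcases hr with rfl | rfl | rfl <;> assumption
    · intro r hr
      simp only [Finset.mem_insert, Finset.mem_singleton] at hr
      rcases hr with rfl | rfl | rfl
      · exact H.dvd_card p41 (by omega) (by omega)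
      · exact H.dvd_card p13 (by omega) (by omega)
      · exact H.dvd_card p17 (by omega) (by omega)
    · intro r hr
      simp only [Finset.mem_insert, Finset.mem_singleton] at hr
      rcases hr with rfl | rfl | rfl <;> norm_num
    · intro r hr s hs hrs
      simp only [Finset.mem_insert, Finset.mem_singleton] at hr hs
      rcases hr with rfl | rfl | rfl <;> rcases hs with rfl | rfl | rfl <;>
        first | exact absurd rfl hrs | assumption | (rw [mul_comm]; assumption)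
    · intro r hr
      simp only [Finset.mem_insert, Finset.mem_singleton] at hr
      rcases hr with rfl | rfl | rfl <;> norm_num
  have h3 : ({41, 13, 17} : Finset ℕ).card = 3 := by decide
  obtain ⟨-, h5⟩ := (redL_of_red R).filter (hC.of_same hω) h3.ge
  have hN : ∀ r : ℕ, r.Prime → r ∣ Nat.card S → r ∣ 41 ∨ r ∣ 20 ∨ r ∣ 21 := by
    intro r hr hd
    have := Fact.mk hr
    obtain ⟨x, hx⟩ := exists_prime_orderOf_dvd_card' r hd
    have h0 := P.h0
    have h1 := P.h1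
    have he := P.he
    norm_num at h0 h1
    rcases P.hε with h | h
    · have e0 : N0 = 20 := by omega
      have e1 : N1 = 21 := by omega
      rcases (P.mem r).1 ⟨x, hx⟩ with h | h | h
      · exact Or.inl h
      · exact Or.inr (Or.inl (e0 ▸ h))
      · exact Or.inr (Or.inr (e1 ▸ h))
    · omega
  have h6 : (({41, 13, 17} : Finset ℕ).filter fun r => r ∣ Nat.card S) ⊆ {41} := by
    intro r hr
    rw [Finset.mem_filter] at hr
    obtain ⟨hr, hd⟩ := hr
    simp only [Finset.mem_insert, Finset.mem_singleton] at hr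
    rcases hr with rfl | rfl | rfl
    · simp
    · rcases hN 13 p13 hd with h | h | h <;> norm_num at h
    · rcases hN 17 p17 hd with h | h | h <;> norm_num at h
  have h7 := Finset.card_le_card h6
  rw [Finset.card_singleton] at h7
  omega

/-- **`S` is not `L₂(u)`, `u` odd.** -/
theorem six_l2 (H : Hyp e 6 k F L) (hω : H228.E3.SameOrd G L) (R : Red G K S) (hp : p.Prime) (hp2 : p ≠ 2) (hf : 1 ≤ f)
    (hE : Fintype.card E = p ^ f) (h4 : 4 ≤ Fintype.card E)
    (φ : S ≃* Matrix.ProjectiveSpecialLinearGroup (Fin 2) E) : False := by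
  obtain ⟨ε, N0, N1, P⟩ := exists_sp hp hp2 hE h4 φ
  have Q := H.qx
  have hq1 : 1 ≤ 2 ^ k := Nat.one_le_two_pow
  obtain ⟨g5, c5, hg5, h5, hc5, hc5A⟩ := exists_c5 e hq1
  obtain ⟨g6, c6, hg6, h6, hc6, hc6A⟩ := exists_c6 e hq1
  have m5 : ∃ x : S, orderOf x = c5 := mem_top H hω R (i := 5) (Or.inr (by omega)) hc5 hc5A
  have m6 : ∃ x : S, orderOf x = c6 := mem_top H hω R (i := 6) (Or.inl rfl) hc6 hc6A
  have hc51 : c5 ≠ 1 := by
    rintro rfl
    have h7 := Q.le_P5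
    have h8 : (2 : ℤ) ≤ ((2 ^ k : ℕ) : ℤ) := by exact_mod_cast Q.h2
    rcases Q.cases with h | h | h | h
    · rw [h] at h5; norm_num [P5] at h5; omega
    · rw [h] at h5; norm_num [P5] at h5; omega
    · rw [h] at h5; norm_num [P5] at h5; omega
    · have h9 : (8 : ℤ) ≤ ((2 ^ k : ℕ) : ℤ) := by exact_mod_cast h
      have h10 : P5 (xv e (2 ^ k)) ≤ 5 := by
        rw [← h5]
        rcases hg5 with rfl | rfl <;> norm_num
      generalize ((2 ^ k : ℕ) : ℤ) = q at *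
      have h12 : (q : ℤ) ^ 4 = q * q ^ 3 := by ring
      have h14 : (0 : ℤ) ≤ (q : ℤ) ^ 3 := by positivity
      nlinarith
  have hc61 : c6 ≠ 1 := by
    rintro rfl
    have h7 := Q.le_P6
    rcases Q.cases with h | h | h | h
    · rw [h] at h6; norm_num [P6] at h6; omega
    · rw [h] at h6; norm_num [P6] at h6; omega
    · rw [h] at h6; norm_num [P6] at h6; omega
    · have h9 : (8 : ℤ) ≤ ((2 ^ k : ℕ) : ℤ) := by exact_mod_cast h
      have h10 : P6 (xv e (2 ^ k)) ≤ 3 := by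
        rw [← h6]
        rcases hg6 with rfl | rfl <;> norm_num
      generalize ((2 ^ k : ℕ) : ℤ) = q at *
      nlinarith
  obtain ⟨r5, hr5, hd5⟩ := Nat.exists_prime_and_dvd hc51
  obtain ⟨r6, hr6, hd6⟩ := Nat.exists_prime_and_dvd hc61
  have o5 := hc5 r5 hr5 hd5
  have o6 := hc6 r6 hr6 hd6
  have n5 := not_N0 H hω P hr5 (Or.inr (by omega))
  have n6 := not_N0 H hω P hr6 (Or.inl o6)
  -- the common part
  have hmain : ∀ w : ℕ, w.Prime → (od e (2 ^ k) p = 5 ∨ od e (2 ^ k) p = 6) →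
      (od e (2 ^ k) w = 5 ∨ od e (2 ^ k) w = 6) → od e (2 ^ k) p ≠ od e (2 ^ k) w → w ∣ N1 →
      (f = 1 ∧ ε = 1) ∨ (∃ r : ℕ, r.Prime ∧ r ∣ (2 ^ k) ^ 2 + 1 ∧ r ∣ f) ∨
        (f % 2 = 1 ∧ (xv e (2 ^ k)) ^ 2 + 1 ∣ (p : ℤ) ^ f - ε) := by
    intro w hw hpi hwi hne hwN
    by_cases hK : ∃ r : ℕ, r.Prime ∧ r ∣ (2 ^ k) ^ 2 + 1 ∧ r ∣ Nat.card K
    · obtain ⟨r, hr, hr1, hrK⟩ := hK
      left
      exact case_K H hω R hp hp2 hf hE φ P hpi hw hwi hne hwN hr (c4_class H.qe hr hr1) hrK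
    by_cases hO : ∃ r : ℕ, r.Prime ∧ r ∣ (2 ^ k) ^ 2 + 1 ∧ r ∣ S.index
    · obtain ⟨r, hr, hr1, hrO⟩ := hO
      right; left
      exact ⟨r, hr, hr1, case_out R hp hf hE h4 φ hr (H.ne_two (by rw [c4_class H.qe hr hr1]; norm_num)) hrO⟩
    push Not at hK hO
    right; right
    have h7 : ∃ y : L, orderOf y = (2 ^ k) ^ 2 + 1 := H.elt (i := 4) (by norm_num) (by norm_num)
      (fun r hr hd => c4_class H.qe hr hd) (c4_dvd hq1)
    have h8 : ∃ x : S, orderOf x = (2 ^ k) ^ 2 + 1 := mem_S hω h7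
      (Nat.coprime_of_dvd fun r hr h1 h2 => hK r hr h1 h2) (Nat.coprime_of_dvd fun r hr h1 h2 => hO r hr h1 h2)
    obtain ⟨r, hr, hr1⟩ := Nat.exists_prime_and_dvd (n := (2 ^ k) ^ 2 + 1)
      (by have : 0 < (2 ^ k) ^ 2 := by positivity
          omega)
    have hr4 := c4_class (e := e) H.qe hr hr1
    have hr2 : r ≠ 2 := H.ne_two (by omega)
    have hN : (2 ^ k) ^ 2 + 1 ∣ N0 := by
      rcases (P.mem _).1 h8 with h | h | h
      · exfalso
        have h9 : r = p := (Nat.prime_dvd_prime_iff_eq hr hp).1 (hr1.trans h)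
        rw [h9] at hr4
        omega
      · exact h
      · exfalso
        exact not_N1 hω P hw hr (by rintro rfl; omega) (nadj_six H hw hr (Or.inr hwi) (Or.inl hr4) (by omega)) hwN
          (hr1.trans h)
    have hN4 : ¬ 4 ∣ N0 := by
      intro h9
      refine H.four hr (by omega) (by omega) (mem_L hω ((P.mem _).2 (Or.inr (Or.inl ?_))))
      refine Nat.Coprime.mul_dvd_of_dvd_of_dvd ?_ h9 (hr1.trans hN)
      exact Nat.Coprime.pow_left 2 ((Nat.coprime_primes Nat.prime_two hr).2 hr2.symm)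
    constructor
    · by_contra hcon
      obtain ⟨m, hm⟩ : ∃ m, f = 2 * m := ⟨f / 2, by omega⟩
      have h10 := P.h0
      have h11 := P.he
      have h12 : p ^ f = (p ^ m) ^ 2 := by rw [hm, mul_comm, pow_mul]
      have h13 : p ^ m % 2 = 1 := Nat.odd_iff.1 ((hp.odd_of_ne_two hp2).pow)
      have h14 : (p ^ m) ^ 2 % 8 = 1 := by
        have : p ^ m % 8 = 1 ∨ p ^ m % 8 = 3 ∨ p ^ m % 8 = 5 ∨ p ^ m % 8 = 7 := by omega
        rw [Nat.pow_mod]
        rcases this with h | h | h | h <;> rw [h]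
      rw [h12] at h10
      apply hN4
      rcases P.hε with h | h <;> rw [h] at h10 <;> omega
    · have h10 := P.h0
      have h11 : (p : ℤ) ^ f - ε = 2 * N0 := by push_cast at h10; linarith
      rw [h11, Q.sq]
      have h12 : (((2 ^ k) ^ 2 + 1 : ℕ) : ℤ) ∣ (N0 : ℤ) := by exact_mod_cast hN
      push_cast at h12 ⊢
      exact h12.mul_left 2
  -- the size
  have hu : p ^ f ≤ 6 * (2 ^ k) ^ 6 + 1 := by
    obtain ⟨y, hy⟩ := mem_L hω ((P.mem N1).2 (Or.inr (Or.inr dvd_rfl)))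
    have h7 := H.ord_le y
    rw [hy] at h7
    have h8 := P.h1
    rcases P.hε with h | h <;> rw [h] at h8 <;> omega
  have hdN : ∀ c : ℕ, c ∣ N1 → (c : ℤ) ∣ (p : ℤ) ^ f + ε := by
    intro c hc
    have h8 := P.h1
    have h9 : (p : ℤ) ^ f + ε = 2 * N1 := by push_cast at h8; linarith
    rw [h9]
    exact (Int.natCast_dvd_natCast.2 hc).mul_left 2
  have hr17 : ∀ r : ℕ, r.Prime → r ∣ (2 ^ k) ^ 2 + 1 → r ∣ f → 5 ≤ f ∧ (xv e (2 ^ k) = -4 → f ≠ 5) := by
    intro r hr hr1 hrf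
    have h7 := c4_class (e := e) H.qe hr hr1
    have h8 := od_lt hr (e := e) (q := 2 ^ k) (by omega)
    have h9 := Nat.le_of_dvd hf hrf
    refine ⟨by omega, ?_⟩
    rintro hx rfl
    have h10 : r = 5 := (Nat.prime_dvd_prime_iff_eq hr (by norm_num)).1 hrf
    subst h10
    have h11 : orderOf ((xv e (2 ^ k) : ℤ) : ZMod 5) = 4 := h7
    rw [hx] at h11
    have h12 : (((-4 : ℤ)) : ZMod 5) = 1 := by decide
    rw [h12, orderOf_one] at h11
    omega
  have key5 : c5 ∣ p ∨ c5 ∣ N1 := by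
    rcases (P.mem _).1 m5 with h | h | h
    · exact Or.inl h
    · exact absurd (hd5.trans h) n5
    · exact Or.inr h
  have key6 : c6 ∣ p ∨ c6 ∣ N1 := by
    rcases (P.mem _).1 m6 with h | h | h
    · exact Or.inl h
    · exact absurd (hd6.trans h) n6
    · exact Or.inr h
  rcases key5 with k5 | k5
  · -- `p` of class `5`
    have hpc : c5 = p := (Nat.dvd_prime hp).1 k5 |>.resolve_left hc51
    subst hpc
    have hp5 : od e (2 ^ k) c5 = 5 := hc5 c5 hp dvd_rfl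
    rcases key6 with k6 | k6
    · exfalso
      have h7 : r6 = c5 := (Nat.prime_dvd_prime_iff_eq hr6 hp).1 (hd6.trans k6)
      rw [h7] at o6
      omega
    · rcases hmain r6 hr6 (Or.inl hp5) (Or.inr o6) (by omega) (hd6.trans k6) with ⟨rfl, rfl⟩ | ⟨r, hr, hr1, hrf⟩ | ⟨hf2, hd⟩
      · have h7 := hdN c6 k6
        rw [pow_one] at h7
        obtain ⟨hx, h41⟩ := numA1 Q hg5 hg6 h5 h6 h7
        subst h41
        exact kill_41 H hω R P hx hp5
      · exact numS5 Q hg5 h5 (by have := (hr17 r hr hr1 hrf).1; omega) hu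
      · exact numC1 Q hg5 hg6 h5 h6 P.hε hf2 hu (hdN c6 k6) hd
  · rcases key6 with k6 | k6
    · have hpc : c6 = p := (Nat.dvd_prime hp).1 k6 |>.resolve_left hc61
      subst hpc
      have hp6 : od e (2 ^ k) c6 = 6 := hc6 c6 hp dvd_rfl
      rcases hmain r5 hr5 (Or.inr hp6) (Or.inl o5) (by omega) (hd5.trans k5) with ⟨rfl, rfl⟩ | ⟨r, hr, hr1, hrf⟩ | ⟨hf2, hd⟩
      · have h7 := hdN c5 k5
        rw [pow_one] at h7
        exact numA2 Q hg6 hg5 h6 h5 (by exact_mod_cast h7)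
      · obtain ⟨h8, h9⟩ := hr17 r hr hr1 hrf
        obtain ⟨hx, -, hf5⟩ := numS6 Q hg6 h6 h8 hu
        exact h9 hx hf5
      · exact numC2 Q hg6 hg5 h6 h5 P.hε hf2 hu (hdN c5 k5) hd
    · exact not_N1 hω P hr5 hr6 (by rintro rfl; omega)
        (nadj_six H hr5 hr6 (Or.inr (Or.inl o5)) (Or.inr (Or.inr o6)) (by omega)) (hd5.trans k5) (hd6.trans k6)

end

end

end Cfsg.Agent.R2.Spec.X6
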